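import Cfsg.Agent.H886.Inv.Asm
import Cfsg.Agent.H886.Inv.RankOne

/-!
# The row PSL of S4171

* `exists_ind4`: a nonscalar endomorphism `S` of a space of dimension at least four is a scalar
  plus an endomorphism of rank at most one, or there are `u, w` with `u, S u, w, S w` independent;
* `four_of_pair`: the second case, by a factorization of block matrices;
* `four_even`, `i4_psl`.
-/

set_option autoImplicit false

universe u w

namespace Cfsg.Agent.H253.FI

open Module Cfsg.Agent.H141.Ore Cfsg.Agent.H886.Inv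

section

variable {F : Type u} [Field F] {V : Type w} [AddCommGroup V] [Module F V]

/-- `u, S u, w, S w` are independent -/
def Ind4 (S : Module.End F V) (u w : V) : Prop :=
  ∀ x y z t : F, x • u + y • S u + z • w + t • S w = 0 → x = 0 ∧ y = 0 ∧ z = 0 ∧ t = 0

/-- linear maps `π`, `σ` with `σ w` a multiple of `π w` whenever `π w ≠ 0` -/
theorem loc_scalar {Q : Type w} [AddCommGroup Q] [Module F Q] (π σ : V →ₗ[F] Q)
    (a b : V) (hab : ∀ x y : F, x • π a + y • π b = 0 → x = 0 ∧ y = 0)
    (h : ∀ v, π v ≠ 0 → ∃ β : F, σ v = β • π v) : ∃ β : F, ∀ v, σ v = β • π v := by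
  -- two independent images give the same factor
  have key : ∀ v v' : V, ∀ α β : F, (∀ x y : F, x • π v + y • π v' = 0 → x = 0 ∧ y = 0) →
      σ v = α • π v → σ v' = β • π v' → α = β := by
    intro v v' α β hi h1 h2
    have h0 : π (v + v') ≠ 0 := by
      intro h0
      have := hi 1 1 (by rw [one_smul, one_smul, ← map_add, h0])
      exact one_ne_zero this.1
    obtain ⟨γ, hγ⟩ := h (v + v') h0
    have h3 : (γ - α) • π v + (γ - β) • π v' = 0 := by
      rw [map_add, map_add, h1, h2, smul_add] at hγ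
      rw [sub_smul, sub_smul]
      have : α • π v + β • π v' - (γ • π v + γ • π v') = 0 := sub_eq_zero.2 hγ
      rw [← neg_eq_zero, ← this]
      abel
    obtain ⟨h4, h5⟩ := hi _ _ h3
    rw [← sub_eq_zero.1 h4, ← sub_eq_zero.1 h5]
  have ha0 : π a ≠ 0 := by
    intro h0
    exact one_ne_zero (hab 1 0 (by rw [h0, smul_zero, zero_smul, add_zero])).1
  have hb0 : π b ≠ 0 := by
    intro h0
    exact one_ne_zero (hab 0 1 (by rw [h0, smul_zero, zero_smul, add_zero])).2
  obtain ⟨α, hα⟩ := h a ha0
  obtain ⟨β, hβ⟩ := h b hb0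
  have hαβ := key a b α β hab hα hβ
  subst hαβ
  refine ⟨α, ?_⟩
  -- if `π v ≠ 0`
  have main : ∀ v, π v ≠ 0 → σ v = α • π v := by
    intro v hv
    obtain ⟨γ, hγ⟩ := h v hv
    by_cases hva : ∀ x y : F, x • π v + y • π a = 0 → x = 0 ∧ y = 0
    · rw [hγ, key v a γ α hva hγ hα]
    · push Not at hva
      obtain ⟨x, y, hxy, hne⟩ := hva
      -- `π v` is a multiple of `π a`
      have hx : x ≠ 0 := by
        rintro rfl
        rw [zero_smul, zero_add] at hxy
        rcases smul_eq_zero.1 hxy with h1 | h1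
        · exact hne rfl h1
        · exact ha0 h1
      have hv' : π v = (-(x⁻¹ * y)) • π a := by
        have h1 : x⁻¹ • (x • π v + y • π a) = 0 := by rw [hxy, smul_zero]
        rw [smul_add, smul_smul, smul_smul, inv_mul_cancel₀ hx, one_smul] at h1
        rw [neg_smul]
        exact eq_neg_of_add_eq_zero_left h1
      have hc : -(x⁻¹ * y) ≠ 0 := by
        intro h0
        rw [h0, zero_smul] at hv'
        exact hv hv'
      have hvb : ∀ x y : F, x • π v + y • π b = 0 → x = 0 ∧ y = 0 := by
        intro p q hpq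
        rw [hv', smul_smul] at hpq
        obtain ⟨h1, h2⟩ := hab _ _ hpq
        exact ⟨(mul_eq_zero.1 h1).resolve_right hc, h2⟩
      rw [hγ, key v b γ α hvb hγ hβ]
  intro v
  by_cases hv : π v = 0
  · have h1 : π (v + a) ≠ 0 := by rw [map_add, hv, zero_add]; exact ha0
    have h2 := main (v + a) h1
    rw [map_add, map_add, hv, zero_add, hα] at h2
    rw [hv, smul_zero]
    exact add_eq_right.1 h2
  · exact main v hv

/-- **Lemma A** -/
theorem exists_ind4 [FiniteDimensional F V] (S : Module.End F V) (hS : NonScalar S)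
    (h4 : 4 ≤ finrank F V) :
    (∃ u w, Ind4 S u w) ∨ ∃ (c : F) (ξ : V →ₗ[F] F) (x : V),
      S = c • (1 : Module.End F V) + ξ.smulRight x := by
  classical
  by_contra hcon
  push Not at hcon
  obtain ⟨hno, hr1⟩ := hcon
  obtain ⟨u, hu⟩ := exists_noneigen S hS
  have hu0 : u ≠ 0 := by
    rintro rfl
    exact hu 0 (by rw [map_zero, smul_zero])
  -- `u`, `S u` independent
  have huS : ∀ x y : F, x • u + y • S u = 0 → x = 0 ∧ y = 0 := by
    intro x y hxy
    have hy : y = 0 := by
      by_contra hy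
      apply hu (-(y⁻¹ * x))
      have h1 : y⁻¹ • (x • u + y • S u) = 0 := by rw [hxy, smul_zero]
      rw [smul_add, smul_smul, smul_smul, inv_mul_cancel₀ hy, one_smul] at h1
      rw [neg_smul]
      exact eq_neg_of_add_eq_zero_right h1
    subst hy
    rw [zero_smul, add_zero] at hxy
    exact ⟨(smul_eq_zero.1 hxy).resolve_right hu0, rfl⟩
  set E : Submodule F V := Submodule.span F {u, S u} with hE
  have hmem : ∀ v, v ∈ E ↔ ∃ x y : F, x • u + y • S u = v := fun v => Submodule.mem_span_pair
  have huE : u ∈ E := (hmem u).2 ⟨1, 0, by simp⟩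
  have hSuE : S u ∈ E := (hmem _).2 ⟨0, 1, by simp⟩
  have hEr : finrank F E ≤ 2 := by
    have h1 := finrank_span_le_card (R := F) ({u, S u} : Set V)
    refine h1.trans ?_
    rw [Set.toFinset_insert, Set.toFinset_singleton]
    exact Finset.card_le_two
  -- the dependence modulo `E`
  have hdep : ∀ v, ∃ z t : F, (z ≠ 0 ∨ t ≠ 0) ∧ z • v + t • S v ∈ E := by
    intro v
    have h1 := hno u v
    unfold Ind4 at h1
    push Not at h1
    obtain ⟨x, y, z, t, h2, h3⟩ := h1
    refine ⟨z, t, ?_, ?_⟩
    · by_contra hzt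
      push Not at hzt
      obtain ⟨rfl, rfl⟩ := hzt
      rw [zero_smul, zero_smul, add_zero, add_zero] at h2
      obtain ⟨h4, h5⟩ := huS x y h2
      exact h3 h4 h5 rfl rfl
    · refine (hmem _).2 ⟨-x, -y, ?_⟩
      rw [neg_smul, neg_smul, ← sub_eq_zero, ← neg_eq_zero, ← h2]
      abel
  -- one factor
  obtain ⟨β, hβ⟩ : ∃ β : F, ∀ v, S v - β • v ∈ E := by
    have hloc : ∀ v, E.mkQ v ≠ 0 → ∃ β : F, (E.mkQ ∘ₗ S) v = β • E.mkQ v := by
      intro v hv
      obtain ⟨z, t, hne, hE'⟩ := hdep v
      have hv' : v ∉ E := fun h => hv (by simpa using h)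
      have ht : t ≠ 0 := by
        rintro rfl
        rw [zero_smul, add_zero] at hE'
        rcases hne with hz | h0
        · exact hv' ((Submodule.smul_mem_iff E hz).1 hE')
        · exact h0 rfl
      refine ⟨-(t⁻¹ * z), ?_⟩
      rw [LinearMap.comp_apply, ← map_smul, ← sub_eq_zero, ← map_sub, Submodule.mkQ_apply,
        Submodule.Quotient.mk_eq_zero]
      have h1 := E.smul_mem t⁻¹ hE'
      rw [smul_add, smul_smul, smul_smul, inv_mul_cancel₀ ht, one_smul] at h1
      rw [neg_smul, sub_neg_eq_add, add_comm]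
      exact h1
    have hq : 2 ≤ finrank F (V ⧸ E) := by
      have := E.finrank_quotient_add_finrank
      omega
    obtain ⟨f, hf⟩ := exists_linearIndependent_of_le_finrank hq
    obtain ⟨a, ha⟩ := E.mkQ_surjective (f 0)
    obtain ⟨b, hb⟩ := E.mkQ_surjective (f 1)
    have hab : ∀ x y : F, x • E.mkQ a + y • E.mkQ b = 0 → x = 0 ∧ y = 0 := by
      intro x y hxy
      rw [ha, hb] at hxy
      have h1 := Fintype.linearIndependent_iff.1 hf ![x, y] (by simpa using hxy)
      exact ⟨h1 0, h1 1⟩
    obtain ⟨β, hβ⟩ := loc_scalar E.mkQ (E.mkQ ∘ₗ S) a b hab hloc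
    refine ⟨β, fun v => ?_⟩
    have h1 := hβ v
    rw [LinearMap.comp_apply, ← map_smul, ← sub_eq_zero, ← map_sub, Submodule.mkQ_apply,
      Submodule.Quotient.mk_eq_zero] at h1
    exact h1
  set M : Module.End F V := S - β • (1 : Module.End F V) with hM
  have hMv : ∀ v, M v = S v - β • v := fun v => rfl
  have hSM : ∀ v, S v = M v + β • v := fun v => by rw [hMv, sub_add_cancel]
  have hME : ∀ v, M v ∈ E := fun v => by rw [hMv]; exact hβ v
  -- `u`, `M u` independent and span `E`
  have huM : ∀ x y : F, x • u + y • M u = 0 → x = 0 ∧ y = 0 := by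
    intro x y hxy
    have h1 : (x - y * β) • u + y • S u = 0 := by
      rw [← hxy, hMv, sub_smul, smul_sub, smul_smul]
      abel
    obtain ⟨h2, h3⟩ := huS _ _ h1
    rw [h3, zero_mul, sub_zero] at h2
    exact ⟨h2, h3⟩
  have hmem' : ∀ v, v ∈ E → ∃ x y : F, v = x • u + y • M u := by
    intro v hv
    obtain ⟨x, y, rfl⟩ := (hmem v).1 hv
    refine ⟨x + y * β, y, ?_⟩
    rw [hMv, add_smul, smul_sub, smul_smul]
    abel
  -- independence of `u', S u', w', S w'` from that of `u', M u', w', M w'`
  have hInd : ∀ u' w' : V, (∀ x y z t : F, x • u' + y • M u' + z • w' + t • M w' = 0 →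
      x = 0 ∧ y = 0 ∧ z = 0 ∧ t = 0) → False := by
    intro u' w' h1
    apply hno u' w'
    intro x y z t h2
    rw [hSM, hSM] at h2
    have h3 : (x + y * β) • u' + y • M u' + (z + t * β) • w' + t • M w' = 0 := by
      rw [← h2, add_smul, add_smul, smul_add, smul_add, smul_smul, smul_smul]
      abel
    obtain ⟨h4, h5, h6, h7⟩ := h1 _ _ _ _ h3
    subst h5 h7
    rw [zero_mul, add_zero] at h4 h6
    exact ⟨h4, rfl, h6, rfl⟩
  -- the kernel
  have hK : 2 ≤ finrank F (LinearMap.ker M) := by
    have h1 := LinearMap.finrank_range_add_finrank_ker M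
    have h2 : finrank F (LinearMap.range M) ≤ finrank F E := by
      apply Submodule.finrank_mono
      rintro _ ⟨v, rfl⟩
      exact hME v
    omega
  have hK2 : ∀ k : V, ∃ k2 : V, M k2 = 0 ∧ ∀ a : F, k2 ≠ a • k := by
    intro k
    by_contra hc
    push Not at hc
    have h1 : LinearMap.ker M ≤ Submodule.span F {k} := by
      intro v hv
      obtain ⟨a, ha⟩ := hc v (LinearMap.mem_ker.1 hv)
      exact Submodule.mem_span_singleton.2 ⟨a, ha.symm⟩
    have h2 := (Submodule.finrank_mono h1).trans (finrank_span_le_card (R := F) ({k} : Set V))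
    rw [Set.toFinset_singleton, Finset.card_singleton] at h2
    omega
  have hkE : ∃ k : V, M k = 0 ∧ k ∉ E := by
    by_contra hc
    push Not at hc
    have h1 : LinearMap.ker M ≤ E := fun v hv => hc v (LinearMap.mem_ker.1 hv)
    have h2 : LinearMap.ker M = E := Submodule.eq_of_le_of_finrank_le h1 (by omega)
    have h3 : M u = 0 := by
      rw [← LinearMap.mem_ker, h2]
      exact huE
    have := huM 0 1 (by rw [h3, smul_zero, zero_smul, add_zero])
    exact one_ne_zero this.2
  obtain ⟨k, hk, hkE⟩ := hkE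
  -- `u` is in the range
  have hrange : ∃ w, M w = u := by
    by_contra hc
    push Not at hc
    obtain ⟨φ, hφ⟩ : ∃ φ : V →ₗ[F] F, φ (M u) = 1 := by
      have hMu : M u ≠ 0 := by
        intro h0
        exact one_ne_zero (huM 0 1 (by rw [h0, smul_zero, zero_smul, add_zero])).2
      obtain ⟨φ, hφ⟩ := not_forall.1 (fun h => hMu ((Module.forall_dual_apply_eq_zero_iff F _).1 h))
      exact ⟨(φ (M u))⁻¹ • φ, by rw [LinearMap.smul_apply, smul_eq_mul, inv_mul_cancel₀ hφ]⟩
    refine hr1 β (φ ∘ₗ M) (M u) ?_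
    ext v
    obtain ⟨x, y, hxy⟩ := hmem' _ (hME v)
    have hx : x = 0 := by
      by_contra hx
      apply hc (x⁻¹ • (v - y • u))
      rw [map_smul, map_sub, map_smul, hxy, add_sub_cancel_right, smul_smul, inv_mul_cancel₀ hx,
        one_smul]
    subst hx
    rw [zero_smul, zero_add] at hxy
    rw [LinearMap.add_apply, LinearMap.smul_apply, LinearMap.smulRight_apply, hSM,
      LinearMap.comp_apply, hxy, map_smul, hφ, smul_eq_mul, mul_one, add_comm]
    rfl
  -- the generic pair
  have hgen : ∀ v, M v = u → ∃ a b c : F, v = a • u + b • M u + c • k := by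
    intro v hv
    by_contra hc
    push Not at hc
    apply hInd (u + k) v
    intro x y z t h1
    rw [map_add, hk, add_zero, hv, smul_add] at h1
    have hz : z = 0 := by
      by_contra hz
      apply hc (-(z⁻¹ * (x + t))) (-(z⁻¹ * y)) (-(z⁻¹ * x))
      have h2 : z⁻¹ • (x • u + x • k + y • M u + z • v + t • u) = 0 := by rw [h1, smul_zero]
      have h3 : z⁻¹ • (x • u + x • k + y • M u + z • v + t • u) =
          (z⁻¹ * (x + t)) • u + (z⁻¹ * y) • M u + (z⁻¹ * x) • k + v := by
        rw [smul_add, smul_add, smul_add, smul_add, smul_smul, smul_smul, smul_smul, smul_smul,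
          smul_smul, inv_mul_cancel₀ hz, one_smul, mul_add, add_smul]
        abel
      rw [h3] at h2
      rw [neg_smul, neg_smul, neg_smul]
      rw [← sub_eq_zero, ← h2]
      abel
    subst hz
    have hx : x = 0 := by
      by_contra hx
      apply hkE
      have h2 : x • k = -((x + t) • u + y • M u) := by
        rw [zero_smul, add_zero] at h1
        rw [eq_neg_iff_add_eq_zero, ← h1, add_smul]
        abel
      rw [← Submodule.smul_mem_iff E hx, h2]
      exact E.neg_mem (E.add_mem (E.smul_mem _ huE) (E.smul_mem _ (hME u)))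
    subst hx
    have h2 : t • u + y • M u = 0 := by
      rw [← h1]
      simp only [zero_smul, add_zero, zero_add]
      abel
    obtain ⟨h3, h4⟩ := huM _ _ h2
    exact ⟨rfl, h4, rfl, h3⟩
  obtain ⟨w, hw⟩ := hrange
  obtain ⟨a, b, c, habc⟩ := hgen w hw
  -- `M` is injective on `E`
  have hMM : ∀ x y : F, x • M u + y • M (M u) = 0 → y = 0 := by
    intro x y hxy
    have h1 : u = a • M u + b • M (M u) := by
      conv_lhs => rw [← hw, habc]
      rw [map_add, map_add, map_smul, map_smul, map_smul, hk, smul_zero, add_zero]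
    by_contra hy
    have h2 : M (M u) = (-(y⁻¹ * x)) • M u := by
      have h3 : y⁻¹ • (x • M u + y • M (M u)) = 0 := by rw [hxy, smul_zero]
      rw [smul_add, smul_smul, smul_smul, inv_mul_cancel₀ hy, one_smul] at h3
      rw [neg_smul]
      exact eq_neg_of_add_eq_zero_right h3
    rw [h2, smul_smul, ← add_smul] at h1
    have h4 := huM 1 (-(a + b * -(y⁻¹ * x))) (by rw [one_smul, neg_smul, ← h1, add_neg_cancel])
    exact one_ne_zero h4.1
  obtain ⟨k2, hk2, hk2'⟩ := hK2 k
  obtain ⟨a', b', c', habc'⟩ := hgen (w + k2) (by rw [map_add, hw, hk2, add_zero])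
  have h5 : k2 = (a' - a) • u + (b' - b) • M u + (c' - c) • k := by
    have : k2 = (w + k2) - w := by abel
    rw [this, habc', habc, sub_smul, sub_smul, sub_smul]
    abel
  have h6 : (a' - a) • M u + (b' - b) • M (M u) = 0 := by
    rw [← hk2]
    conv_rhs => rw [h5]
    rw [map_add, map_add, map_smul, map_smul, map_smul, hk, smul_zero, add_zero]
  have h7 := hMM _ _ h6
  rw [h7, zero_smul, add_zero] at h6
  have h8 := (huM 0 (a' - a) (by rw [zero_smul, zero_add, h6])).2
  rw [h7, h8, zero_smul, zero_smul, zero_add, zero_add] at h5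
  exact hk2' _ h5

end

section blocks

variable {F : Type u} [Field F] {W : Type w} [AddCommGroup W] [Module F W]

/-- the block endomorphism `(a, w) ↦ (x a + X w, Y a + Z w)` of `F² × W` -/
def blk (x : F) (X : W →ₗ[F] F × F) (Y : F × F →ₗ[F] W) (Z : Module.End F W) :
    Module.End F ((F × F) × W) :=
  LinearMap.prod (LinearMap.coprod (x • (1 : Module.End F (F × F))) X) (LinearMap.coprod Y Z)

theorem blk_apply (x : F) (X : W →ₗ[F] F × F) (Y : F × F →ₗ[F] W) (Z : Module.End F W)
    (a : F × F) (w : W) : blk x X Y Z (a, w) = (x • a + X w, Y a + Z w) := rfl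

/-- `(a, w) ↦ (a, w + K a)` -/
def lowE (K : F × F →ₗ[F] W) : ((F × F) × W) ≃ₗ[F] (F × F) × W :=
  LinearEquiv.skewProd (LinearEquiv.refl F (F × F)) (LinearEquiv.refl F W) K

theorem lowE_apply (K : F × F →ₗ[F] W) (a : F × F) (w : W) : lowE K (a, w) = (a, w + K a) := rfl

/-- `(a, w) ↦ (a + L w, w)` -/
def upE (L : W →ₗ[F] F × F) : ((F × F) × W) ≃ₗ[F] (F × F) × W :=
  { LinearMap.prod (LinearMap.coprod (1 : Module.End F (F × F)) L) (LinearMap.snd F (F × F) W) with
    invFun := fun p => (p.1 - L p.2, p.2)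
    left_inv := fun p => by
      refine Prod.ext ?_ rfl
      show p.1 + L p.2 - L p.2 = p.1
      abel
    right_inv := fun p => by
      refine Prod.ext ?_ rfl
      show p.1 - L p.2 + L p.2 = p.1
      abel }

theorem upE_apply (L : W →ₗ[F] F × F) (a : F × F) (w : W) : upE L (a, w) = (a + L w, w) := rfl

theorem unip_low (Y : F × F →ₗ[F] W) :
    IsNilpotent ((lowE Y : Module.End F ((F × F) × W)) - 1) := by
  refine ⟨2, ?_⟩
  rw [pow_two]
  refine LinearMap.ext fun v => ?_
  obtain ⟨a, w⟩ := v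
  rw [Module.End.mul_apply]
  have h1 : ∀ a w, ((lowE Y : Module.End F ((F × F) × W)) - 1) (a, w) = (0, Y a) := by
    intro a w
    refine Prod.ext ?_ ?_
    · show a - a = 0
      abel
    · show w + Y a - w = Y a
      abel
  rw [h1, h1, map_zero]
  rfl

theorem unip_up (X : W →ₗ[F] F × F) :
    IsNilpotent ((upE X : Module.End F ((F × F) × W)) - 1) := by
  refine ⟨2, ?_⟩
  rw [pow_two]
  refine LinearMap.ext fun v => ?_
  obtain ⟨a, w⟩ := v
  rw [Module.End.mul_apply]
  have h1 : ∀ a w, ((upE X : Module.End F ((F × F) × W)) - 1) (a, w) = (X w, 0) := by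
    intro a w
    refine Prod.ext ?_ ?_
    · show a + X w - a = X w
      abel
    · show w - w = 0
      abel
  rw [h1, h1, map_zero]
  rfl

variable [FiniteDimensional F W]

theorem srl_diag (B : Module.End F W) (hB : IsNilpotent (B - 1)) :
    SRL (LinearMap.prodMap (-1 : Module.End F (F × F)) B) ∧
      LinearMap.det (LinearMap.prodMap (-1 : Module.End F (F × F)) B) = 1 := by
  constructor
  · obtain ⟨t, ht1, ht2⟩ := unip_inv B hB
    have h3 : t * t = (1 : F) • (1 : Module.End F W) := by rw [ht1, one_smul]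
    have h4 : (t * B) * (t * B) = (1 : F) • (1 : Module.End F W) := by rw [ht2, one_smul]
    rcases det_of_sq t ht1 with hd | hd
    · refine SRL.prodMap 1 t 1 (Or.inl rfl) ?_ ?_ ?_ h3 h4
      · rw [LinearMap.det_prodMap, hd, map_one, one_mul]
      · rw [one_mul, one_smul]
      · refine LinearMap.ext fun x => ?_
        show -(-x) = (1 : F) • x
        rw [neg_neg, one_smul]
    · set s : Module.End F (F × F) := LinearMap.prodMap (-1 : Module.End F F) (1 : Module.End F F)
        with hs
      have hss : s * s = 1 := by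
        refine LinearMap.ext fun x => Prod.ext ?_ rfl
        show -(-x.1) = x.1
        rw [neg_neg]
      have hds : LinearMap.det s = -1 := by
        rw [hs, LinearMap.det_prodMap, map_one, mul_one, ← neg_one_smul F (1 : Module.End F F),
          LinearMap.det_smul, map_one, finrank_self, pow_one, mul_one]
      refine SRL.prodMap s t 1 (Or.inl rfl) ?_ ?_ ?_ h3 h4
      · rw [LinearMap.det_prodMap, hd, hds]
        ring
      · rw [hss, one_smul]
      · refine LinearMap.ext fun x => ?_
        show s (-(s (-x))) = (1 : F) • x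
        rw [map_neg, map_neg, map_neg, neg_neg, one_smul]
        exact LinearMap.congr_fun hss x
  · rw [LinearMap.det_prodMap, det_unip B hB, mul_one, ← neg_one_smul F (1 : Module.End F (F × F)),
      LinearMap.det_smul, map_one, finrank_prod, finrank_self]
    ring

omit [FiniteDimensional F W] in
theorem isUnit_one_add (h2 : (2 : F) ≠ 0) (B : Module.End F W) (hB : IsNilpotent (B - 1)) :
    ∃ D : Module.End F W, (1 + B) * D = 1 ∧ D * (1 + B) = 1 := by
  have h3 : IsUnit (algebraMap F (Module.End F W) 2) := (isUnit_iff_ne_zero.2 h2).map _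
  have h4 : IsUnit (algebraMap F (Module.End F W) 2 + (B - 1)) :=
    hB.isUnit_add_left_of_commute h3 (Algebra.commutes (2 : F) (B - 1)).symm
  have h5 : algebraMap F (Module.End F W) 2 + (B - 1) = 1 + B := by
    have : algebraMap F (Module.End F W) 2 = 1 + 1 := by
      rw [← one_add_one_eq_two, map_add, map_one]
    rw [this]
    abel
  rw [h5] at h4
  obtain ⟨D, hD⟩ := h4
  exact ⟨(D⁻¹ : (Module.End F W)ˣ), by rw [← hD, Units.mul_inv], by rw [← hD, Units.inv_mul]⟩

theorem srl_low (h2 : (2 : F) ≠ 0) (Y : F × F →ₗ[F] W) (B : Module.End F W)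
    (hB : IsNilpotent (B - 1)) :
    SRL (blk (-1) 0 (-Y) B) ∧ LinearMap.det (blk (-1) 0 (-Y) B) = 1 := by
  obtain ⟨D, hD, -⟩ := isUnit_one_add h2 B hB
  have hK : ∀ a, D (Y a) + B (D (Y a)) = Y a := fun a => LinearMap.congr_fun hD (Y a)
  have he : ∀ v, lowE (D ∘ₗ Y) (LinearMap.prodMap (-1 : Module.End F (F × F)) B v) =
      blk (-1) 0 (-Y) B (lowE (D ∘ₗ Y) v) := by
    rintro ⟨a, w⟩
    have h1 : LinearMap.prodMap (-1 : Module.End F (F × F)) B (a, w) = (-a, B w) := rfl
    rw [h1, lowE_apply, lowE_apply, blk_apply]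
    refine Prod.ext ?_ ?_
    · show -a = (-1 : F) • a + 0
      rw [neg_one_smul, add_zero]
    · show B w + D (Y (-a)) = -(Y a) + B (w + D (Y a))
      have e : -(Y a) = -(D (Y a)) + -(B (D (Y a))) := by rw [← neg_add, hK a]
      rw [map_neg, map_neg, map_add, e]
      abel
  exact ⟨(srl_diag B hB).1.transport _ he, by rw [det_transport _ he]; exact (srl_diag B hB).2⟩

theorem srl_up (h2 : (2 : F) ≠ 0) (X : W →ₗ[F] F × F) (C : Module.End F W)
    (hC : IsNilpotent (C - 1)) :
    SRL (blk (-1) (-X) 0 C) ∧ LinearMap.det (blk (-1) (-X) 0 C) = 1 := by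
  obtain ⟨D, -, hD⟩ := isUnit_one_add h2 C hC
  have hK : ∀ w, X (D w) + X (D (C w)) = X w := fun w => by
    rw [← map_add, ← map_add]
    exact congrArg X (LinearMap.congr_fun hD w)
  have he : ∀ v, upE (-(X ∘ₗ D)) (LinearMap.prodMap (-1 : Module.End F (F × F)) C v) =
      blk (-1) (-X) 0 C (upE (-(X ∘ₗ D)) v) := by
    rintro ⟨a, w⟩
    have h1 : LinearMap.prodMap (-1 : Module.End F (F × F)) C (a, w) = (-a, C w) := rfl
    rw [h1, upE_apply, upE_apply, blk_apply]
    refine Prod.ext ?_ ?_
    · show -a + -(X (D (C w))) = (-1 : F) • (a + -(X (D w))) + -(X w)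
      rw [neg_one_smul, ← hK w]
      abel
    · show C w = 0 + C w
      rw [zero_add]
  exact ⟨(srl_diag C hC).1.transport _ he, by rw [det_transport _ he]; exact (srl_diag C hC).2⟩

theorem four_blk (h2 : (2 : F) ≠ 0) (X : W →ₗ[F] F × F) (Y : F × F →ₗ[F] W)
    (B C : Module.End F W) (hB : IsNilpotent (B - 1)) (hC : IsNilpotent (C - 1)) :
    Four (blk 1 X Y (B * C + Y ∘ₗ X)) := by
  refine ⟨1, _, _, ?_, (srl_low h2 Y B hB).1, (srl_up h2 X C hC).1, (srl_low h2 Y B hB).2,
    (srl_up h2 X C hC).2⟩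
  refine LinearMap.ext fun v => ?_
  obtain ⟨a, w⟩ := v
  rw [one_smul, Module.End.mul_apply, blk_apply, blk_apply, blk_apply]
  refine Prod.ext ?_ ?_
  · show (1 : F) • a + X w = (-1 : F) • ((-1 : F) • a + -(X w)) + 0
    rw [neg_one_smul, neg_one_smul, one_smul]
    abel
  · show Y a + (B (C w) + Y (X w)) = -(Y ((-1 : F) • a + -(X w))) + B (0 + C w)
    rw [neg_one_smul, ← neg_add, map_neg, map_add, zero_add]
    abel

theorem four_neg (hW : Even (finrank F W)) (X : W →ₗ[F] F × F) (Y : F × F →ₗ[F] W) :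
    Four (blk 1 X Y (-1 + Y ∘ₗ X)) := by
  have hdet1 : LinearMap.det (-1 : Module.End F (F × F)) = 1 := by
    rw [← neg_one_smul F (1 : Module.End F (F × F)), LinearMap.det_smul, map_one, finrank_prod,
      finrank_self]
    ring
  have hdetW : LinearMap.det (-1 : Module.End F W) = 1 := by
    rw [← neg_one_smul F (1 : Module.End F W), LinearMap.det_smul, map_one, hW.neg_one_pow,
      mul_one]
  refine ⟨1, blk (-1) 0 (-Y) 1, blk (-1) (-X) 0 (-1), ?_, ?_, ?_, ?_, ?_⟩
  · refine LinearMap.ext fun v => ?_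
    obtain ⟨a, w⟩ := v
    rw [one_smul, Module.End.mul_apply, blk_apply, blk_apply, blk_apply]
    refine Prod.ext ?_ ?_
    · show (1 : F) • a + X w = (-1 : F) • ((-1 : F) • a + -(X w)) + 0
      rw [neg_one_smul, neg_one_smul, one_smul]
      abel
    · show Y a + (-w + Y (X w)) = -(Y ((-1 : F) • a + -(X w))) + (0 + -w)
      rw [neg_one_smul, ← neg_add, map_neg, map_add, zero_add]
      abel
  · apply SRL.of_sq
    refine LinearMap.ext fun v => ?_
    obtain ⟨a, w⟩ := v
    rw [Module.End.mul_apply, blk_apply, blk_apply]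
    refine Prod.ext ?_ ?_
    · show (-1 : F) • ((-1 : F) • a + 0) + 0 = a
      rw [neg_one_smul, neg_one_smul]
      abel
    · show -(Y ((-1 : F) • a + 0)) + (-(Y a) + w) = w
      rw [neg_one_smul, add_zero, map_neg]
      abel
  · refine SRL.of_inv (LinearMap.prodMap 1 (-1)) 1 (Or.inl rfl) ?_ ?_ ?_
    · rw [LinearMap.det_prodMap, map_one, hdetW, one_mul]
    · rw [one_smul]
      refine LinearMap.ext fun v => Prod.ext rfl ?_
      show -(-v.2) = v.2
      rw [neg_neg]
    · refine LinearMap.ext fun v => ?_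
      obtain ⟨a, w⟩ := v
      rw [Module.End.mul_apply, Module.End.mul_apply, blk_apply (-1) (-X) 0 (-1) a w]
      have h1 : LinearMap.prodMap (1 : Module.End F (F × F)) (-1 : Module.End F W)
          ((-1 : F) • a + (-X) w, (0 : F × F →ₗ[F] W) a + (-1 : Module.End F W) w) =
          ((-1 : F) • a + -(X w), w) := by
        refine Prod.ext rfl ?_
        show -(0 + -w) = w
        rw [zero_add, neg_neg]
      rw [h1, blk_apply]
      refine Prod.ext ?_ ?_
      · show (-1 : F) • ((-1 : F) • a + -(X w)) + -(X w) = a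
        rw [neg_one_smul, neg_one_smul]
        abel
      · show 0 + -w = -w
        rw [zero_add]
  · have h1 : blk (-1) 0 (-Y) (1 : Module.End F W) =
        (lowE Y : Module.End F ((F × F) × W)) * LinearMap.prodMap (-1) 1 := by
      refine LinearMap.ext fun v => ?_
      obtain ⟨a, w⟩ := v
      refine Prod.ext ?_ ?_
      · show (-1 : F) • a + 0 = -a
        rw [neg_one_smul, add_zero]
      · show -(Y a) + w = w + Y (-a)
        rw [map_neg, add_comm]
    rw [h1, map_mul, det_unip _ (unip_low Y), LinearMap.det_prodMap, hdet1, map_one, one_mul, one_mul]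
  · have h1 : blk (-1) (-X) 0 (-1 : Module.End F W) =
        LinearMap.prodMap (-1) (-1) * (upE X : Module.End F ((F × F) × W)) := by
      refine LinearMap.ext fun v => ?_
      obtain ⟨a, w⟩ := v
      refine Prod.ext ?_ ?_
      · show (-1 : F) • a + -(X w) = -(a + X w)
        rw [neg_one_smul, neg_add]
      · show 0 + -w = -w
        rw [zero_add]
    rw [h1, map_mul, det_unip _ (unip_up X), LinearMap.det_prodMap, hdet1, hdetW, one_mul, one_mul]

theorem det_blk (X : W →ₗ[F] F × F) (Y : F × F →ₗ[F] W) (T : Module.End F W) :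
    LinearMap.det (blk 1 X Y (T + Y ∘ₗ X)) = LinearMap.det T := by
  have h1 : blk 1 X Y (T + Y ∘ₗ X) = (lowE Y : Module.End F ((F × F) × W)) *
      (LinearMap.prodMap (1 : Module.End F (F × F)) T * (upE X : Module.End F ((F × F) × W))) := by
    refine LinearMap.ext fun v => ?_
    obtain ⟨a, w⟩ := v
    refine Prod.ext ?_ ?_
    · show (1 : F) • a + X w = a + X w
      rw [one_smul]
    · show Y a + (T w + Y (X w)) = T w + Y (a + X w)
      rw [map_add]
      abel
  rw [h1, map_mul, map_mul, det_unip _ (unip_low Y), det_unip _ (unip_up X),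
    LinearMap.det_prodMap, map_one, one_mul, one_mul, mul_one]

/-- the Schur complement is not a scalar different from one -/
theorem four_blk' (h2 : (2 : F) ≠ 0) (X : W →ₗ[F] F × F) (Y : F × F →ₗ[F] W)
    (T : Module.End F W) (hdet : LinearMap.det T = 1) (hT : NonScalar T ∨ T = 1) :
    Four (blk 1 X Y (T + Y ∘ₗ X)) := by
  obtain ⟨B, C, rfl, hB, hC⟩ := exists_bc T hdet hT
  exact four_blk h2 X Y B C hB hC

/-- the Schur complement is a scalar, `dim W ≥ 3` -/
theorem four_scalar (h2 : (2 : F) ≠ 0) (X : W →ₗ[F] F × F) (Y : F × F →ₗ[F] W) (c : F)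
    (hdet : c ^ finrank F W = 1) (hW : 3 ≤ finrank F W) (u₀ : F × F) (hu : Y u₀ ≠ 0) :
    Four (blk 1 X Y (c • (1 : Module.End F W) + Y ∘ₗ X)) := by
  have hc : c ≠ 0 := by
    rintro rfl
    rw [zero_pow (by omega)] at hdet
    exact zero_ne_one hdet
  -- a functional vanishing on the range of `Y`
  obtain ⟨φ, hφ0, hφ⟩ : ∃ φ : W →ₗ[F] F, φ ≠ 0 ∧ ∀ a, φ (Y a) = 0 := by
    have hlt : LinearMap.range Y < ⊤ := by
      rw [lt_top_iff_ne_top]
      intro h
      have h1 := LinearMap.finrank_range_le Y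
      rw [h, finrank_top, finrank_prod, finrank_self] at h1
      omega
    obtain ⟨φ, h1, h3⟩ := Submodule.exists_le_ker_of_lt_top _ hlt
    exact ⟨φ, h1, fun a => LinearMap.mem_ker.1 (h3 ⟨a, rfl⟩)⟩
  obtain ⟨w₀, hw₀⟩ : ∃ w₀, φ w₀ ≠ 0 := by
    by_contra h
    push Not at h
    exact hφ0 (LinearMap.ext h)
  set h : W →ₗ[F] F × F := φ.smulRight u₀ with hh
  have hhw : ∀ w, h w = φ w • u₀ := fun w => rfl
  have hhY : ∀ a, h (Y a) = 0 := fun a => by rw [hhw, hφ, zero_smul]
  set T : Module.End F W := c • (1 : Module.End F W) + c • (Y ∘ₗ h) with hT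
  set X' : W →ₗ[F] F × F := X + (1 - c) • h with hX'
  have hTw : ∀ w, T w = c • w + c • Y (h w) := fun w => rfl
  have hNS : NonScalar T := by
    intro a
    by_contra hcon
    push Not at hcon
    have h3 := hcon (Y u₀)
    rw [hTw, hhY, map_zero, smul_zero, add_zero] at h3
    have h4 : c = a := by
      rw [← sub_eq_zero, ← sub_smul] at h3
      exact sub_eq_zero.1 ((smul_eq_zero.1 h3).resolve_right hu)
    have h5 := hcon w₀
    rw [hTw, ← h4, add_eq_left, hhw, map_smul, smul_smul] at h5
    rcases smul_eq_zero.1 h5 with h6 | h6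
    · exact (mul_ne_zero hc hw₀) h6
    · exact hu h6
  have he : ∀ v, upE h (blk 1 X' Y (T + Y ∘ₗ X') v) =
      blk 1 X Y (c • (1 : Module.End F W) + Y ∘ₗ X) (upE h v) := by
    rintro ⟨a, w⟩
    rw [blk_apply, upE_apply, upE_apply, blk_apply]
    refine Prod.ext ?_ ?_
    · show (1 : F) • a + (X w + (1 - c) • h w) + h (Y a + (T w + Y (X' w))) =
        (1 : F) • (a + h w) + X w
      rw [hTw, map_add, map_add, map_add, hhY, hhY, map_smul, map_smul, hhY, sub_smul, one_smul,
        one_smul, one_smul, smul_zero]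
      abel
    · show Y a + (T w + Y (X w + (1 - c) • h w)) = Y (a + h w) + (c • w + Y (X w))
      rw [hTw, map_add, map_add, map_smul, sub_smul, one_smul]
      abel
  refine Four.transport (upE h) he (four_blk' h2 X' Y T ?_ (Or.inl hNS))
  -- the determinant
  have hu : IsNilpotent ((1 + Y ∘ₗ h) - 1 : Module.End F W) := by
    refine ⟨2, ?_⟩
    rw [add_sub_cancel_left, pow_two]
    refine LinearMap.ext fun w => ?_
    show Y (h (Y (h w))) = 0
    rw [hhY, map_zero]
  have h3 : T = c • (1 + Y ∘ₗ h : Module.End F W) := by rw [hT, smul_add]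
  rw [h3, LinearMap.det_smul, det_unip _ hu, mul_one, hdet]

end blocks

section main

variable {F : Type u} [Field F] {V : Type w} [AddCommGroup V] [Module F V]
  [FiniteDimensional F V]

/-- case (A1) -/
theorem four_of_pair (h2 : (2 : F) ≠ 0) (h4 : 4 ≤ finrank F V)
    (S : Module.End F V) (hdet : LinearMap.det S = 1) (i : F × F →ₗ[F] V) (p : V →ₗ[F] F × F)
    (hpi : ∀ a, p (i a) = a) (hpSi : ∀ a, p (S (i a)) = a) (u₀ : F × F)
    (hu : S (i u₀) ≠ i u₀) : Four S := by
  -- the decomposition
  have hk : ∀ v, v - i (p v) ∈ LinearMap.ker p := fun v => by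
    rw [LinearMap.mem_ker, map_sub, hpi, sub_self]
  let e : V ≃ₗ[F] (F × F) × LinearMap.ker p :=
    { toFun := fun v => (p v, ⟨v - i (p v), hk v⟩)
      map_add' := fun v w => by
        refine Prod.ext (map_add _ _ _) (Subtype.ext ?_)
        show v + w - i (p (v + w)) = (v - i (p v)) + (w - i (p w))
        rw [map_add, map_add]
        abel
      map_smul' := fun c v => by
        refine Prod.ext (map_smul _ _ _) (Subtype.ext ?_)
        show c • v - i (p (c • v)) = c • (v - i (p v))
        rw [map_smul, map_smul, smul_sub]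
      invFun := fun x => i x.1 + x.2
      left_inv := fun v => by
        show i (p v) + (v - i (p v)) = v
        abel
      right_inv := fun x => by
        have h1 : p (x.2 : V) = 0 := LinearMap.mem_ker.1 x.2.2
        refine Prod.ext ?_ (Subtype.ext ?_)
        · show p (i x.1 + x.2) = x.1
          rw [map_add, hpi, h1, add_zero]
        · show (i x.1 + x.2) - i (p (i x.1 + x.2)) = x.2
          rw [map_add, hpi, h1, add_zero]
          abel }
  have hW : finrank F (LinearMap.ker p) + 2 = finrank F V := by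
    have h1 := e.finrank_eq
    rw [finrank_prod, finrank_prod, finrank_self] at h1
    omega
  let q : V →ₗ[F] LinearMap.ker p := LinearMap.snd F (F × F) (LinearMap.ker p) ∘ₗ e.toLinearMap
  have hq : ∀ v, (q v : V) = v - i (p v) := fun v => rfl
  let X : LinearMap.ker p →ₗ[F] F × F := p ∘ₗ S ∘ₗ (LinearMap.ker p).subtype
  let Y : F × F →ₗ[F] LinearMap.ker p := q ∘ₗ S ∘ₗ i
  let Z : Module.End F (LinearMap.ker p) := q ∘ₗ S ∘ₗ (LinearMap.ker p).subtype
  let T : Module.End F (LinearMap.ker p) := Z - Y ∘ₗ X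
  have hZT : Z = T + Y ∘ₗ X := (sub_add_cancel _ _).symm
  have he : ∀ v, e.symm (blk 1 X Y Z v) = S (e.symm v) := by
    rintro ⟨a, w⟩
    apply e.injective
    rw [e.apply_symm_apply]
    have h1 : e.symm (a, w) = i a + w := rfl
    rw [h1, map_add, map_add, blk_apply]
    refine Prod.ext ?_ ?_
    · show (1 : F) • a + p (S w) = p (S (i a)) + p (S w)
      rw [hpSi, one_smul]
    · rfl
  have hYu : Y u₀ ≠ 0 := by
    intro h
    apply hu
    have h1 : ((Y u₀ : LinearMap.ker p) : V) = 0 := by rw [h]; rfl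
    have h3 : ((Y u₀ : LinearMap.ker p) : V) = S (i u₀) - i (p (S (i u₀))) := rfl
    rw [h3, hpSi] at h1
    exact sub_eq_zero.1 h1
  have hdT : LinearMap.det T = 1 := by
    rw [← det_blk X Y T, ← hZT, ← det_transport e.symm he, hdet]
  refine Four.transport e.symm he ?_
  rw [hZT]
  by_cases hT : NonScalar T
  · exact four_blk' h2 X Y T hdT (Or.inl hT)
  unfold Cfsg.Agent.H141.Ore.NonScalar at hT
  push Not at hT
  obtain ⟨c, hc⟩ := hT
  have hTc : T = c • (1 : Module.End F (LinearMap.ker p)) := LinearMap.ext hc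
  have hcn : c ^ finrank F (LinearMap.ker p) = 1 := by
    rw [hTc, LinearMap.det_smul, map_one, mul_one] at hdT
    exact hdT
  by_cases hc1 : c = 1
  · refine four_blk' h2 X Y T hdT (Or.inr ?_)
    rw [hTc, hc1, one_smul]
  by_cases h3 : 3 ≤ finrank F (LinearMap.ker p)
  · rw [hTc]
    exact four_scalar h2 X Y c hcn h3 u₀ hYu
  · have h5 : finrank F (LinearMap.ker p) = 2 := by omega
    rw [h5] at hcn
    have h6 : c = -1 := (mul_self_eq_one_iff.1 (by rw [← pow_two]; exact hcn)).resolve_left hc1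
    have h7 : (-1 : F) • (1 : Module.End F (LinearMap.ker p)) = -1 :=
      LinearMap.ext fun v => neg_one_smul F v
    rw [hTc, h6, h7]
    exact four_neg (by rw [h5]; exact even_two) X Y

/-- **even dimension**, given the scalar-plus-rank-one case -/
theorem four_even_of (h2 : (2 : F) ≠ 0) (h4 : 4 ≤ finrank F V)
    (S : Module.End F V) (hdet : LinearMap.det S = 1) (hS : NonScalar S)
    (hr : ∀ (c : F) (ξ : V →ₗ[F] F) (x : V), S = c • (1 : Module.End F V) + ξ.smulRight x →
      Four S) : Four S := by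
  rcases exists_ind4 S hS h4 with ⟨u, w, h⟩ | ⟨c, ξ, x, hx⟩
  swap
  · exact hr c ξ x hx
  -- the independent family
  let j : (F × F) × (F × F) →ₗ[F] V :=
    LinearMap.coprod
      (LinearMap.coprod (LinearMap.toSpanSingleton F V u) (LinearMap.toSpanSingleton F V w))
      (LinearMap.coprod (LinearMap.toSpanSingleton F V (S u - u))
        (LinearMap.toSpanSingleton F V (S w - w)))
  have hj : ∀ a b c d : F, j ((a, b), (c, d)) =
      (a • u + b • w) + (c • (S u - u) + d • (S w - w)) := fun a b c d => rfl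
  have hjk : LinearMap.ker j = ⊥ := by
    rw [LinearMap.ker_eq_bot']
    rintro ⟨⟨a, b⟩, ⟨c, d⟩⟩ h0
    rw [hj] at h0
    obtain ⟨h5, h6, h7, h8⟩ := h (a - c) c (b - d) d (by
      rw [← h0, smul_sub, smul_sub, sub_smul, sub_smul]
      abel)
    subst h6 h8
    rw [sub_zero] at h5 h7
    rw [h5, h7]
    rfl
  obtain ⟨g, hg⟩ := LinearMap.exists_leftInverse_of_injective j hjk
  have hg' : ∀ x, g (j x) = x := fun x => LinearMap.congr_fun hg x
  refine four_of_pair h2 h4 S hdet (j ∘ₗ LinearMap.inl F (F × F) (F × F))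
    (LinearMap.fst F (F × F) (F × F) ∘ₗ g) ?_ ?_ (1, 0) ?_
  · intro a
    show (g (j (a, 0))).1 = a
    rw [hg']
  · rintro ⟨a, b⟩
    have h5 : S (j ((a, b), (0, 0))) = j ((a, b), (a, b)) := by
      rw [hj, hj, zero_smul, zero_smul, add_zero, add_zero, map_add, map_smul, map_smul, smul_sub,
        smul_sub]
      abel
    show (g (S (j ((a, b), (0, 0))))).1 = (a, b)
    rw [h5, hg']
  · have h5 : j ((1, 0), (0, 0)) = u := by
      rw [hj]
      simp
    show S (j ((1, 0), (0, 0))) ≠ j ((1, 0), (0, 0))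
    rw [h5]
    intro h6
    have h7 := h 1 (-1) 0 0 (by rw [h6]; simp)
    exact one_ne_zero h7.1

/-- **even dimension** -/
theorem four_even (hn : Even (finrank F V)) (h4 : 4 ≤ finrank F V) (h2 : (2 : F) ≠ 0)
    (S : Module.End F V) (hdet : LinearMap.det S = 1) (hS : NonScalar S) : Four S := by
  refine four_even_of h2 h4 S hdet hS fun c ξ x hx => ?_
  refine four_rank_one hn h4 c x ξ S (fun v => ?_) hdet
  rw [hx]
  rfl

end main

/-- **the row PSL_n(q)** of S4171 -/
theorem i4_psl {G : Type*} [Group G] (h : Cfsg.IsPSL G) : Cfsg.Agent.H146.Inv4.I4 G := by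
  refine i4_psl_of (fun F _ _ n hn h4 h2 S hdet hS => ?_) h
  have hfr : finrank F (Fin n → F) = n := by
    rw [Module.finrank_fintype_fun_eq_card, Fintype.card_fin]
  exact four_even (by rwa [hfr]) (by rwa [hfr]) h2 S hdet hS

end Cfsg.Agent.H253.FI
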