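import Cfsg.Prelude.Def_Classical
import Cfsg.Agent.S2445
import Cfsg.Agent.H146.Inv4.Base

/-!
# Every isometry of a symplectic space over a finite field is a product of four isometries with square `-1`

except in `Sp_2(2)`, `Sp_2(3)`, `Sp_4(2)` (helper253, for S4171).
-/

set_option autoImplicit false
set_option linter.unusedSectionVars false
open Polynomial

noncomputable section

namespace Cfsg.Agent.H253.FI

open Cfsg.Agent.H144

variable {F V : Type*} [Field F] [AddCommGroup V] [Module F V]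

/-- `g` is a product of four isometries with square `-1`. -/
def Four (B : LinearMap.BilinForm F V) (g : V ≃ₗ[F] V) : Prop :=
  ∃ t : Fin 4 → (V ≃ₗ[F] V), (∀ i, Iso B (t i)) ∧ (∀ i v, t i (t i v) = -v) ∧ ∀ v, g v = t 0 (t 1 (t 2 (t 3 v)))

/-- the same on a subspace -/
def FourOn (B : LinearMap.BilinForm F V) (g : V ≃ₗ[F] V) (P : Submodule F V) : Prop :=
  ∃ t : Fin 4 → (V ≃ₗ[F] V), (∀ i, Iso B (t i)) ∧ (∀ i, ∀ v ∈ P, t i v ∈ P) ∧ (∀ i, ∀ v ∈ perp B P, t i v = v) ∧
    (∀ i, ∀ v ∈ P, t i (t i v) = -v) ∧ ∀ v ∈ P, g v = t 0 (t 1 (t 2 (t 3 v)))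

theorem FourOn.bot (B : LinearMap.BilinForm F V) (g : V ≃ₗ[F] V) : FourOn B g ⊥ := by
  refine ⟨fun _ => 1, fun _ => Iso.one B, fun _ v hv => hv, fun _ v _ => rfl, fun _ v hv => ?_, fun v hv => ?_⟩
  · rw [Submodule.mem_bot] at hv
    subst hv
    simp
  · rw [Submodule.mem_bot] at hv
    subst hv
    simp

theorem FourOn.sup {B : LinearMap.BilinForm F V} (hB : Alt B) {g : V ≃ₗ[F] V} {P Q : Submodule F V}
    (hPQ : Orth B P Q) (hP : FourOn B g P) (hQ : FourOn B g Q) : FourOn B g (P ⊔ Q) := by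
  obtain ⟨t, h1, h2, h3, h4, h5⟩ := hP
  obtain ⟨s, k1, k2, k3, k4, k5⟩ := hQ
  have hPp : ∀ v ∈ P, v ∈ perp B Q := fun v hv w hw => hB.zero (hPQ v hv w hw)
  have hQp : ∀ v ∈ Q, v ∈ perp B P := fun v hv w hw => hPQ w hw v hv
  have eP : ∀ i, ∀ v ∈ P, (t i * s i) v = t i v := fun i v hv => by
    rw [LinearEquiv.mul_apply, k3 i v (hPp v hv)]
  have eQ : ∀ i, ∀ v ∈ Q, (t i * s i) v = s i v := fun i v hv => by
    rw [LinearEquiv.mul_apply, h3 i _ (hQp _ (k2 i v hv))]
  refine ⟨fun i => t i * s i, fun i => (h1 i).mul (k1 i), fun i v hv => ?_, fun i v hv => ?_, fun i v hv => ?_,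
    fun v hv => ?_⟩
  · obtain ⟨a, ha, b, hb, rfl⟩ := Submodule.mem_sup.1 hv
    rw [map_add, eP i a ha, eQ i b hb]
    exact Submodule.add_mem_sup (h2 i a ha) (k2 i b hb)
  · rw [LinearEquiv.mul_apply, k3 i v (fun w hw => hv w (Submodule.mem_sup_right hw)),
      h3 i v (fun w hw => hv w (Submodule.mem_sup_left hw))]
  · obtain ⟨a, ha, b, hb, rfl⟩ := Submodule.mem_sup.1 hv
    rw [map_add, eP i a ha, eQ i b hb, map_add, eP i _ (h2 i a ha), eQ i _ (k2 i b hb), h4 i a ha, k4 i b hb, neg_add]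
  · obtain ⟨a, ha, b, hb, rfl⟩ := Submodule.mem_sup.1 hv
    have a3 := h2 3 a ha
    have a2 := h2 2 _ a3
    have a1 := h2 1 _ a2
    have b3 := k2 3 b hb
    have b2 := k2 2 _ b3
    have b1 := k2 1 _ b2
    rw [map_add (t 3 * s 3), eP 3 a ha, eQ 3 b hb, map_add (t 2 * s 2), eP 2 _ a3, eQ 2 _ b3, map_add (t 1 * s 1),
      eP 1 _ a2, eQ 1 _ b2, map_add (t 0 * s 0), eP 0 _ a1, eQ 0 _ b1, map_add, h5 a ha, k5 b hb]

theorem FourOn.top {B : LinearMap.BilinForm F V} {g : V ≃ₗ[F] V} (h : FourOn B g ⊤) : Four B g := by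
  obtain ⟨t, h1, h2, h3, h4, h5⟩ := h
  exact ⟨t, h1, fun i v => h4 i v trivial, fun v => h5 v trivial⟩

section FD

variable [FiniteDimensional F V]

theorem fourOn_of {B : LinearMap.BilinForm F V} (hB : Alt B) {P : Submodule F V} (hP : Nd B P)
    {g : V ≃ₗ[F] V} (hI : Inv g P) (h : Four (B.restrict P) (gr g P hI)) : FourOn B g P := by
  obtain ⟨t, h1, h2, h3⟩ := h
  choose T hT hTt hTp using fun i => ext_iso hB hP (h1 i)
  have hTm : ∀ i, ∀ v (hv : v ∈ P), T i v = t i ⟨v, hv⟩ := fun i v hv => hTt i ⟨v, hv⟩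
  refine ⟨T, hT, fun i v hv => ?_, hTp, fun i v hv => ?_, fun v hv => ?_⟩
  · rw [hTm i v hv]; exact (t i ⟨v, hv⟩).2
  · rw [hTm i v hv, hTt, h2]; rfl
  · rw [hTm 3 v hv, hTt, hTt, hTt, ← h3]
    rfl

/-- an isometry `j` with `j² = -1` inverting `X` -/
theorem exists_j {B : LinearMap.BilinForm F V} (hB : Alt B) (hN : Nond B) {P Q : Submodule F V}
    (hP : Orth B P P) (hQ : Orth B Q Q) (hPQ : P ⊔ Q = ⊤) {x : P ≃ₗ[F] P} (s : P →ₗ[F] Module.Dual F P)
    (hs : ∀ a b, s a b = s b a) (hnd : ∀ a, s a = 0 → a = 0) (hx : ∀ a b, s (x a) b = s a (x b))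
    {X : V ≃ₗ[F] V} (hX : Iso B X) (hXx : ∀ v : P, X v = x v) (hXQ : ∀ v ∈ Q, X v ∈ Q) :
    ∃ j : V ≃ₗ[F] V, Iso B j ∧ (∀ v, j (j v) = -v) ∧ ∀ v, j (X v) = X⁻¹ (j v) := by
  have hc := isCompl_of hN hP hQ hPQ
  let e₀ : Q →ₗ[F] Module.Dual F P := (B.compl₁₂ P.subtype Q.subtype).flip
  have he₀ : Function.Injective e₀ := by
    rw [← LinearMap.ker_eq_bot, LinearMap.ker_eq_bot']
    intro q hq
    have : (q : V) = 0 := by
      apply eq_zero_of_orth hN hPQ _ (hQ q q.2)
      intro w hw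
      have := LinearMap.congr_fun hq ⟨w, hw⟩
      exact hB.zero this
    exact Subtype.ext this
  let e : Q ≃ₗ[F] Module.Dual F P := LinearEquiv.ofInjectiveOfFinrankEq e₀ he₀ (by
    rw [Subspace.dual_finrank_eq]; exact (finrank_eq hB hN hP hQ hPQ).symm)
  have he : ∀ (q : Q) (p : P), e q p = B p q := fun q p => rfl
  let s' : P ≃ₗ[F] Module.Dual F P := LinearEquiv.ofInjectiveOfFinrankEq s
    ((injective_iff_map_eq_zero s).2 hnd) (by rw [Subspace.dual_finrank_eq])
  have hs' : ∀ a, s' a = s a := fun a => rfl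
  let φ : P ≃ₗ[F] Q := s'.trans e.symm
  have hφ : ∀ (p p' : P), B p' (φ p) = s p p' := by
    intro p p'
    rw [← he, ← hs']
    change e (e.symm (s' p)) p' = _
    rw [e.apply_symm_apply]
  let E := Submodule.prodEquivOfIsCompl P Q hc
  have hE : ∀ (p : P) (q : Q), E.symm (p + q) = (p, q) := by
    intro p q
    rw [E.symm_apply_eq]
    rfl
  let J₀ : (P × Q) ≃ₗ[F] (P × Q) :=
    { toFun := fun a => (-φ.symm a.2, φ a.1)
      map_add' := fun a b => by
        rw [Prod.fst_add, Prod.snd_add, map_add, map_add, neg_add, Prod.mk_add_mk]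
      map_smul' := fun c a => by
        rw [Prod.smul_fst, Prod.smul_snd, map_smul, map_smul, ← smul_neg, RingHom.id_apply, Prod.smul_mk]
      invFun := fun a => (φ.symm a.2, -φ a.1)
      left_inv := fun a => by simp
      right_inv := fun a => by simp }
  let j : V ≃ₗ[F] V := E.symm.trans (J₀.trans E)
  have hj : ∀ (p : P) (q : Q), j (p + q) = -(φ.symm q : V) + φ p := by
    intro p q
    change E (J₀ (E.symm (p + q))) = _
    rw [hE]
    rfl
  have hjP : ∀ p : P, j p = φ p := by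
    intro p
    have := hj p 0
    simpa using this
  have hjQ : ∀ q : Q, j q = -(φ.symm q : V) := by
    intro q
    have := hj 0 q
    simpa using this
  have hXφ : ∀ p : P, X (φ (x p)) = φ p := by
    intro p
    apply eq_of_sub_eq_zero
    apply eq_zero_of_orth hN hPQ _ (hQ _ (Q.sub_mem (hXQ _ (φ (x p)).2) (φ p).2))
    intro w hw
    apply hB.zero
    obtain ⟨w', hw'⟩ := x.surjective ⟨w, hw⟩
    have h1 : w = X w' := by rw [hXx, hw']
    rw [map_sub, h1, hX, hφ, hXx, hφ, hx, sub_self]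
  refine ⟨j, ?_, ?_, ?_⟩
  · intro v w
    obtain ⟨p, hp, q, hq, rfl⟩ := mem_sup_top hPQ v
    obtain ⟨p', hp', q', hq', rfl⟩ := mem_sup_top hPQ w
    have h1 := hj ⟨p, hp⟩ ⟨q, hq⟩
    have h2 := hj ⟨p', hp'⟩ ⟨q', hq'⟩
    simp only at h1 h2
    rw [h1, h2]
    simp only [map_add, LinearMap.add_apply, map_neg, LinearMap.neg_apply]
    rw [hP _ (φ.symm ⟨q, hq⟩).2 _ (φ.symm ⟨q', hq'⟩).2, hQ _ (φ ⟨p, hp⟩).2 _ (φ ⟨p', hp'⟩).2,
      hP p hp p' hp', hQ q hq q' hq']
    have h3 := hφ ⟨p', hp'⟩ (φ.symm ⟨q, hq⟩)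
    have h4 := hφ ⟨p, hp⟩ (φ.symm ⟨q', hq'⟩)
    have h5 := hφ (φ.symm ⟨q, hq⟩) ⟨p', hp'⟩
    have h6 := hφ (φ.symm ⟨q', hq'⟩) ⟨p, hp⟩
    rw [φ.apply_symm_apply] at h5 h6
    simp only at h5 h6
    rw [hB.neg (φ ⟨p, hp⟩ : V), h3, h4, hs ⟨p, hp⟩, ← h6, hs ⟨p', hp'⟩, ← h5, hB.neg q p']
    ring
  · intro v
    obtain ⟨p, hp, q, hq, rfl⟩ := mem_sup_top hPQ v
    have h1 := hjP ⟨p, hp⟩
    have h2 := hjQ ⟨q, hq⟩
    simp only at h1 h2
    rw [map_add, h1, h2, map_add, map_neg, hjQ, hjP, φ.symm_apply_apply, φ.apply_symm_apply, neg_add]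
  · have key : ∀ p : P, j (X p) = X⁻¹ (j p) := by
      intro p
      rw [hXx, hjP, hjP, ← hXφ p, inv_app]
    intro v
    obtain ⟨p, hp, q, hq, rfl⟩ := mem_sup_top hPQ v
    rw [map_add, map_add, map_add, map_add, key ⟨p, hp⟩]
    congr 1
    obtain ⟨p', hp'⟩ := φ.surjective ⟨q, hq⟩
    obtain ⟨p'', rfl⟩ := x.surjective p'
    have h1 : q = φ (x p'') := by rw [hp']
    rw [h1, hXφ, hjQ, hjQ, φ.symm_apply_apply, φ.symm_apply_apply, map_neg, ← hXx, inv_app]

theorem exists_sym (P : Submodule F V) : ∃ s : P →ₗ[F] Module.Dual F P, (∀ a b, s a b = s b a) ∧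
    ∀ a, s a = 0 → a = 0 := by
  let b := Module.finBasis F P
  refine ⟨b.toDual, fun x y => ?_, fun a ha => ?_⟩
  · have h : b.toDual = b.toDual.flip := by
      refine b.ext fun i => b.ext fun k => ?_
      rw [LinearMap.flip_apply, Module.Basis.toDual_apply, Module.Basis.toDual_apply]
      by_cases hik : i = k
      · rw [if_pos hik, if_pos hik.symm]
      · rw [if_neg hik, if_neg (Ne.symm hik)]
    conv_lhs => rw [h, LinearMap.flip_apply]
  · exact b.toDual_injective (by rw [ha, map_zero])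

/-- scalars -/
theorem four_triv {B : LinearMap.BilinForm F V} (hB : Alt B) (hN : Nond B) {P Q : Submodule F V}
    (hP : Orth B P P) (hQ : Orth B Q Q) (hPQ : P ⊔ Q = ⊤) {g : V ≃ₗ[F] V} {c : F} (hc : c = 1 ∨ c = -1)
    (hg : ∀ v, g v = c • v) : Four B g := by
  obtain ⟨s, hs, hnd⟩ := exists_sym P
  obtain ⟨j, hj, hj2, -⟩ := exists_j hB hN hP hQ hPQ (x := 1) s hs hnd (fun _ _ => rfl) (Iso.one B)
    (fun _ => rfl) (fun v hv => hv)
  have hj' : Iso B (ng j) := ng_iso hj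
  have hj2' : ∀ v, ng j (ng j v) = -v := fun v => by rw [ng_apply, ng_apply, map_neg, neg_neg, hj2]
  have hjn : ∀ v, j (ng j v) = v := fun v => by rw [ng_apply, map_neg, hj2, neg_neg]
  rcases hc with rfl | rfl
  · refine ⟨![j, ng j, j, ng j], fun i => ?_, fun i => ?_, fun v => ?_⟩
    · fin_cases i <;> assumption
    · fin_cases i <;> assumption
    · show g v = j (ng j (j (ng j v)))
      rw [hjn, hjn, hg, one_smul]
  · refine ⟨![j, j, j, ng j], fun i => ?_, fun i => ?_, fun v => ?_⟩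
    · fin_cases i <;> assumption
    · fin_cases i <;> assumption
    · show g v = j (j (j (ng j v)))
      rw [hjn, hj2, hg, neg_one_smul]

/-- the Singer element with a symmetric form -/
theorem sing_sym [Finite F] (P : Submodule F V) (hV : Module.finrank F P ≠ 0)
    (h : 5 ≤ Nat.card F ^ Module.finrank F P ∨ 4 ≤ Nat.card F) :
    ∃ (x : P ≃ₗ[F] P) (f f' : F[X]) (s : P →ₗ[F] Module.Dual F P), Sing x f f' ∧ (∀ a b, s a b = s b a) ∧
      (∀ a, s a = 0 → a = 0) ∧ ∀ a b, s (x a) b = s a (x b) := by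
  obtain ⟨K, _, _, _, hK, ξ, hξ, h1, h2⟩ := exists_singer F (Module.finrank F P) hV h
  let e : P ≃ₗ[F] K := LinearEquiv.ofFinrankEq P K hK.symm
  let y : K ≃ₗ[F] K := LinearEquiv.ofLinearMap
    (LinearMap.mulLeft F ξ) (LinearMap.mulLeft F ξ⁻¹)
    (by ext v; simp [mul_inv_cancel_left₀ hξ]) (by ext v; simp [inv_mul_cancel_left₀ hξ])
  obtain ⟨lam, hlam⟩ : ∃ lam : K →ₗ[F] F, lam 1 ≠ 0 := by
    obtain ⟨lam, hl⟩ := (Module.forall_dual_apply_eq_zero_iff F (1 : K)).not.2 one_ne_zero |> not_forall.1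
    exact ⟨lam, hl⟩
  let s : P →ₗ[F] Module.Dual F P := (LinearMap.mul F K).compr₂ lam |>.compl₁₂ e.toLinearMap e.toLinearMap
  have hs : ∀ a b, s a b = lam (e a * e b) := fun _ _ => rfl
  refine ⟨e.trans (y.trans e.symm), _, _, s, (sing_smul ξ hξ h1 h2 y (fun v => rfl)).conj e (fun v => rfl), ?_, ?_, ?_⟩
  · intro a b
    rw [hs, hs, mul_comm]
  · intro a ha
    by_contra ha0
    have hea : e a ≠ 0 := fun h0 => ha0 (e.map_eq_zero_iff.1 h0)
    have h3 := LinearMap.congr_fun ha (e.symm (e a)⁻¹)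
    rw [hs, e.apply_symm_apply, mul_inv_cancel₀ hea] at h3
    exact hlam h3
  · intro a b
    have hx : ∀ a, e ((e.trans (y.trans e.symm)) a) = ξ * e a := fun a => by
      change e (e.symm (y (e a))) = _
      rw [e.apply_symm_apply]
      rfl
    rw [hs, hs, hx, hx]
    congr 1
    ring

/-- **Isometries with `C1`.** -/
theorem c1_four [Finite F] {B : LinearMap.BilinForm F V} (hB : Alt B) (hN : Nond B) {n : ℕ}
    (hV : Module.finrank F V = 2 * n) (hn : n ≠ 0) (hq : 5 ≤ Nat.card F ^ n ∨ 4 ≤ Nat.card F)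
    {g h : V ≃ₗ[F] V} (hh : Iso B h) {c : F} (hc : c = 1 ∨ c = -1) (hgh : ∀ v, g v = c • h v) (hC : C1 B h) :
    Four B g := by
  obtain ⟨P, Q, hP, hQ, hPQ, hPg⟩ := hC
  have h2 := finrank_two hB hN hP hQ hPQ
  have h3 : Module.finrank F P = n := by omega
  obtain ⟨x, f, f', s, hx, hs, hnd, hxs⟩ := sing_sym P (by omega) (by rw [h3]; exact hq)
  obtain ⟨k, m, hk, hm, hkm⟩ := c1_factor hB hN hP hQ hPQ hh hPg
  obtain ⟨X, hX, hXx, hXQ⟩ := levi hB hN hP hQ hPQ x
  obtain ⟨j, hj, hj2, hjX⟩ := exists_j hB hN hP hQ hPQ s hs hnd hxs hX hXx hXQ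
  have hXP : ∀ v ∈ P, X v ∈ P := fun v hv => by rw [hXx ⟨v, hv⟩]; exact (x ⟨v, hv⟩).2
  have hXi : ∀ v : P, X⁻¹ v = (x⁻¹ v : P) := by
    intro v
    have h1 := hXx (x⁻¹ v)
    rw [app_inv] at h1
    rw [← h1, inv_app]
  have hfP : ∀ v ∈ P, aeval (X : Module.End F V) f v = 0 := by
    intro v hv
    have h1 := aeval_restrict (X := (X : Module.End F V)) (x := (x : Module.End F P)) hXx f ⟨v, hv⟩
    rw [h1, hx.1]
    rfl
  have hfP' : ∀ v ∈ P, aeval (X : Module.End F V) f' v = 0 → v = 0 := by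
    intro v hv h0
    have h1 := aeval_restrict (X := (X : Module.End F V)) (x := (x : Module.End F P)) hXx f' ⟨v, hv⟩
    rw [h0] at h1
    exact congrArg Subtype.val (hx.2.2.2 ⟨v, hv⟩ (Subtype.ext h1.symm))
  have hfQ : ∀ v ∈ Q, aeval (X : Module.End F V) f v = 0 → v = 0 := by
    intro v hv h0
    apply eq_zero_of_orth hN hPQ _ (hQ v hv)
    intro w hw
    have hinj : Function.Injective (aeval ((x⁻¹ : P ≃ₗ[F] P) : Module.End F P) f) := by
      rw [← LinearMap.ker_eq_bot, LinearMap.ker_eq_bot']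
      exact hx.2.1
    obtain ⟨w', hw'⟩ := (LinearMap.injective_iff_surjective.1 hinj) ⟨w, hw⟩
    have h1 := aeval_adj hX f (w' : V) v
    have h2 := aeval_restrict (X := ((X⁻¹ : V ≃ₗ[F] V) : Module.End F V))
      (x := ((x⁻¹ : P ≃ₗ[F] P) : Module.End F P)) hXi f w'
    rw [h0, map_zero, h2, hw'] at h1
    exact hB.zero h1.symm
  have hfQ' : ∀ v ∈ Q, aeval (X : Module.End F V) f' v = 0 := by
    intro v hv
    apply eq_zero_of_orth hN hPQ _ (hQ _ (aeval_mem hXQ f' v hv))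
    intro w hw
    have h1 := aeval_adj hX f' w v
    have h2 := aeval_restrict (X := ((X⁻¹ : V ≃ₗ[F] V) : Module.End F V))
      (x := ((x⁻¹ : P ≃ₗ[F] P) : Module.End F P)) hXi f' ⟨w, hw⟩
    simp only at h2
    rw [h2, hx.2.2.1, Submodule.coe_zero, map_zero, LinearMap.zero_apply] at h1
    exact hB.zero h1
  -- first factor
  obtain ⟨z, hz, hzX⟩ := sylvester hPQ hX hXQ f hfP hfQ hk
  have h1 : uni z (skew_sq hz) * X = uni k (skew_sq hk) * X * uni z (skew_sq hz) := by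
    ext v
    simp only [LinearEquiv.mul_apply, uni_apply, map_add]
    have : k (X (z v)) = 0 := hk.2.1 _ (hXQ _ (hz.1 v))
    rw [hzX, this]
    abel
  -- second factor
  have hm' : -m ∈ Skew B P := (Skew B P).neg_mem hm
  have hQP : Q ⊔ P = ⊤ := by rw [sup_comm]; exact hPQ
  obtain ⟨w, hw, hwX⟩ := sylvester hQP hX hXP f' hfQ' hfP' hm'
  have h4 : uni w (skew_sq hw) * X = (uni m (skew_sq hm))⁻¹ * X * uni w (skew_sq hw) := by
    ext v
    simp only [LinearEquiv.mul_apply, uni_apply, uni_inv_apply, map_add]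
    have : m (X (w v)) = 0 := hm.2.1 _ (hXP _ (hw.1 v))
    rw [hwX, this, LinearMap.neg_apply]
    abel
  have hui : Iso B (uni z (skew_sq hz)) := skew_iso hQ hz
  have hti : Iso B (uni w (skew_sq hw)) := skew_iso hP hw
  obtain ⟨a, ha⟩ : ∃ a, a = uni k (skew_sq hk) := ⟨_, rfl⟩
  obtain ⟨b, hb⟩ : ∃ b, b = uni m (skew_sq hm) := ⟨_, rfl⟩
  obtain ⟨u, hu⟩ : ∃ u, u = uni z (skew_sq hz) := ⟨_, rfl⟩
  obtain ⟨t, ht⟩ : ∃ t, t = uni w (skew_sq hw) := ⟨_, rfl⟩
  rw [← ha, ← hb] at hkm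
  rw [← ha, ← hu] at h1
  rw [← hb, ← ht] at h4
  rw [← hu] at hui
  rw [← ht] at hti
  have e1 : a * X = u * X * u⁻¹ := by rw [h1]; group
  have e2 : X⁻¹ * b = t * X⁻¹ * t⁻¹ := by
    have h5 : b⁻¹ * X = t * X * t⁻¹ := by rw [h4]; group
    have h6 := congrArg (fun s => s⁻¹) h5
    simp only [mul_inv_rev, inv_inv] at h6
    rw [h6]
    group
  -- the four factors
  have jj : j * j = LinearEquiv.neg F := LinearEquiv.ext fun v => hj2 v
  have hneg : ∀ y : V ≃ₗ[F] V, LinearEquiv.neg F * y = y * LinearEquiv.neg F := fun y => by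
    ext v
    show -(y v) = y (-v)
    rw [map_neg]
  have hnn : (LinearEquiv.neg F : V ≃ₗ[F] V) * LinearEquiv.neg F = 1 := by
    ext v
    show -(-v) = v
    rw [neg_neg]
  have hjX' : j * X = X⁻¹ * j := LinearEquiv.ext fun v => hjX v
  have jXsq : (j * X) * (j * X) = LinearEquiv.neg F := by
    calc (j * X) * (j * X) = (X⁻¹ * j) * (j * X) := by rw [hjX']
      _ = X⁻¹ * (j * j) * X := by group
      _ = X⁻¹ * (LinearEquiv.neg F * X) := by rw [jj]; group
      _ = LinearEquiv.neg F := by rw [hneg]; group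
  have hji : j⁻¹ = ng j := by
    rw [inv_eq_iff_mul_eq_one]
    show j * (LinearEquiv.neg F * j) = 1
    rw [hneg, ← mul_assoc, jj, hnn]
  -- conjugates
  have hconj : ∀ {y r : V ≃ₗ[F] V}, Iso B y → Iso B r → Iso B (r * y * r⁻¹) := fun hy hr => (hr.mul hy).mul hr.inv
  have hsq : ∀ {y : V ≃ₗ[F] V} (r : V ≃ₗ[F] V), y * y = LinearEquiv.neg F →
      (r * y * r⁻¹) * (r * y * r⁻¹) = LinearEquiv.neg F := by
    intro y r hy
    calc (r * y * r⁻¹) * (r * y * r⁻¹) = r * (y * y) * r⁻¹ := by group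
      _ = LinearEquiv.neg F * (r * r⁻¹) := by rw [hy, ← hneg]; group
      _ = _ := by rw [mul_inv_cancel, mul_one]
  have ngsq : (ng j) * (ng j) = LinearEquiv.neg F := by
    show (LinearEquiv.neg F * j) * (LinearEquiv.neg F * j) = _
    rw [hneg j]
    calc (j * LinearEquiv.neg F) * (j * LinearEquiv.neg F) = j * (LinearEquiv.neg F * j) * LinearEquiv.neg F := by group
      _ = (j * j) * (LinearEquiv.neg F * LinearEquiv.neg F) := by rw [hneg]; group
      _ = _ := by rw [jj, hnn, mul_one]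
  -- the product for `h`
  have hprod : h = (u * ng j * u⁻¹) * (u * (j * X) * u⁻¹) * (t * (ng (j * X)) * t⁻¹) * (t * j * t⁻¹) := by
    have e3 : ng j * (j * X) = X := by
      rw [← hji]; group
    have e4 : ng (j * X) * j = X⁻¹ := by
      have : ng (j * X) = (j * X)⁻¹ := by
        rw [eq_comm, inv_eq_iff_mul_eq_one]
        show (j * X) * (LinearEquiv.neg F * (j * X)) = 1
        rw [hneg, ← mul_assoc, jXsq, hnn]
      rw [this, mul_inv_rev]
      group
    calc h = (a * X) * (X⁻¹ * b) := by rw [hkm]; group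
      _ = (u * X * u⁻¹) * (t * X⁻¹ * t⁻¹) := by rw [e1, e2]
      _ = (u * (ng j * (j * X)) * u⁻¹) * (t * (ng (j * X) * j) * t⁻¹) := by rw [e3, e4]
      _ = _ := by group
  have ngjX : Iso B (ng (j * X)) := ng_iso (hj.mul hX)
  have ngjXsq : ng (j * X) * ng (j * X) = LinearEquiv.neg F := by
    show (LinearEquiv.neg F * (j * X)) * (LinearEquiv.neg F * (j * X)) = _
    rw [hneg (j * X)]
    calc ((j * X) * LinearEquiv.neg F) * ((j * X) * LinearEquiv.neg F) =
        (j * X) * (LinearEquiv.neg F * (j * X)) * LinearEquiv.neg F := by group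
      _ = ((j * X) * (j * X)) * (LinearEquiv.neg F * LinearEquiv.neg F) := by rw [hneg]; group
      _ = _ := by rw [jXsq, hnn, mul_one]
  have app : ∀ {y : V ≃ₗ[F] V}, y * y = LinearEquiv.neg F → ∀ v, y (y v) = -v := fun hy v => by
    have := LinearEquiv.congr_fun hy v
    exact this
  rcases hc with rfl | rfl
  · refine ⟨![u * ng j * u⁻¹, u * (j * X) * u⁻¹, t * ng (j * X) * t⁻¹, t * j * t⁻¹], fun i => ?_, fun i => ?_,
      fun v => ?_⟩
    · fin_cases i
      · exact hconj (ng_iso hj) hui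
      · exact hconj (hj.mul hX) hui
      · exact hconj ngjX hti
      · exact hconj hj hti
    · fin_cases i
      · exact app (hsq u ngsq)
      · exact app (hsq u jXsq)
      · exact app (hsq t ngjXsq)
      · exact app (hsq t jj)
    · show g v = (u * ng j * u⁻¹) ((u * (j * X) * u⁻¹) ((t * ng (j * X) * t⁻¹) ((t * j * t⁻¹) v)))
      rw [hgh, one_smul, hprod]
      rfl
  · refine ⟨![u * j * u⁻¹, u * (j * X) * u⁻¹, t * ng (j * X) * t⁻¹, t * j * t⁻¹], fun i => ?_, fun i => ?_,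
      fun v => ?_⟩
    · fin_cases i
      · exact hconj hj hui
      · exact hconj (hj.mul hX) hui
      · exact hconj ngjX hti
      · exact hconj hj hti
    · fin_cases i
      · exact app (hsq u jj)
      · exact app (hsq u jXsq)
      · exact app (hsq t ngjXsq)
      · exact app (hsq t jj)
    · show g v = (u * j * u⁻¹) ((u * (j * X) * u⁻¹) ((t * ng (j * X) * t⁻¹) ((t * j * t⁻¹) v)))
      rw [hgh, hprod]
      simp only [LinearEquiv.mul_apply, ng_apply, map_neg, neg_smul, one_smul, neg_neg]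

/-! ### the decomposition -/

theorem ng_ng (g : V ≃ₗ[F] V) : ng (ng g) = g := by
  ext v
  rw [ng_apply, ng_apply, neg_neg]

theorem exists_dec2 {B : LinearMap.BilinForm F V} (hB : Alt B) {g : V ≃ₗ[F] V}
    (hg : Iso B g) (n : ℕ) : ∀ P : Submodule F V, Inv g P → Nd B P → Module.finrank F P = n →
      ∃ P₁ P₂ : Submodule F V, Orth B P₁ P₂ ∧ Inv g P₁ ∧ Inv g P₂ ∧ Nd B P₁ ∧ Nd B P₂ ∧ P₁ ⊔ P₂ = P ∧ C1On B g P₁ ∧
        C1On B (ng g) P₂ ∧ ((2 : F) = 0 → P₂ = ⊥) := by
  induction n using Nat.strong_induction_on with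
  | _ n ih =>
  intro P hPI hPN hn
  rcases Nat.eq_zero_or_pos n with h0 | hpos
  · rw [h0] at hn
    have hbot : P = ⊥ := Submodule.finrank_eq_zero.1 hn
    subst hbot
    refine ⟨⊥, ⊥, ?_, Inv.bot g, Inv.bot g, Nd.bot B, Nd.bot B, by simp, C1On.bot B g, C1On.bot B _, fun _ => rfl⟩
    intro x hx y _
    rw [Submodule.mem_bot] at hx
    subst hx; simp
  · -- a minimal nonzero invariant nondegenerate subspace
    classical
    have hex : ∃ k, ∃ Q : Submodule F V, Q ≤ P ∧ Q ≠ ⊥ ∧ Inv g Q ∧ Nd B Q ∧ Module.finrank F Q = k :=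
      ⟨n, P, le_rfl, by
        rintro rfl
        rw [finrank_bot] at hn
        omega, hPI, hPN, hn⟩
    obtain ⟨Q, hQP, hQ0, hQI, hQN, hQk⟩ := Nat.find_spec hex
    have hmin : ∀ Q' : Submodule F V, Q' ≤ P → Q' ≠ ⊥ → Inv g Q' → Nd B Q' →
        Module.finrank F Q ≤ Module.finrank F Q' := by
      intro Q' h1 h2 h3 h4
      rw [hQk]
      exact Nat.find_min' hex ⟨Q', h1, h2, h3, h4, rfl⟩
    have hQnt : Nontrivial Q := Submodule.nontrivial_iff_ne_bot.2 hQ0
    have hIndec : Indec (B.restrict Q) (gr g Q hQI) := by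
      intro R hRI hRN
      by_cases hR : R = ⊥
      · exact Or.inl hR
      right
      have h1 : Module.finrank F (R.map Q.subtype) = Module.finrank F R :=
        (Submodule.equivMapOfInjective Q.subtype Q.injective_subtype R).finrank_eq.symm
      have h2 := hmin (R.map Q.subtype) ((Submodule.map_subtype_le Q R).trans hQP) (by
        intro h0
        apply hR
        rw [h0, finrank_bot] at h1
        exact Submodule.finrank_eq_zero.1 h1.symm) (by
        rintro _ ⟨x, hx, rfl⟩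
        exact ⟨_, hRI x hx, rfl⟩) (by
        rintro _ ⟨x, hx, rfl⟩ h0
        have := hRN x hx (fun w hw => h0 w ⟨w, hw, rfl⟩)
        rw [this]; rfl)
      rw [h1] at h2
      exact Submodule.eq_top_of_finrank_eq (le_antisymm (Submodule.finrank_le R) h2)
    have hpiece := indec_main (restrict_alt hB Q) (restrict_nond hQN) (gr_iso hg Q hQI) hIndec
    -- the complement
    set R := P ⊓ perp B Q with hR
    have hQR : Q ⊔ R = P := by
      apply le_antisymm (sup_le hQP inf_le_left)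
      intro v hv
      have h1 : v ∈ Q ⊔ perp B Q := by rw [sup_perp hB hQN]; trivial
      obtain ⟨a, ha, b, hb, rfl⟩ := Submodule.mem_sup.1 h1
      refine Submodule.add_mem_sup ha ⟨?_, hb⟩
      have := P.sub_mem hv (hQP ha)
      simpa using this
    have hQRo : Orth B Q R := fun x hx y hy => hy.2 x hx
    have hRI : Inv g R := by
      intro v hv
      refine ⟨hPI v hv.1, fun w hw => ?_⟩
      rw [hg.adj']
      exact hv.2 _ (inv_mem_of_mem hQI w hw)
    have hRN : Nd B R := by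
      intro v hv h0
      apply hPN v hv.1
      intro w hw
      rw [← hQR] at hw
      obtain ⟨a, ha, b, hb, rfl⟩ := Submodule.mem_sup.1 hw
      rw [map_add, h0 b hb, hB.zero (hQRo a ha v hv), add_zero]
    have hdisj : Disjoint Q R := by
      rw [Submodule.disjoint_def]
      intro v hv hv'
      exact hQN v hv (fun w hw => hB.zero (hv'.2 w hw))
    have hfin : Module.finrank F Q + Module.finrank F R = n := by
      have h1 := Submodule.finrank_sup_add_finrank_inf_eq Q R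
      rw [hQR, hdisj.eq_bot, finrank_bot, hn] at h1
      omega
    have hQpos : 0 < Module.finrank F Q := Module.finrank_pos
    obtain ⟨P₁, P₂, o1, i1, i2, n1, n2, hsup, hc1, hc2, hch⟩ :=
      ih (Module.finrank F R) (by omega) R hRI hRN rfl
    have hP₁R : P₁ ≤ R := by rw [← hsup]; exact le_sup_left
    have hP₂R : P₂ ≤ R := by rw [← hsup]; exact le_sup_right
    have oQ : ∀ {T : Submodule F V}, T ≤ R → Orth B Q T := fun hT x hx y hy => hQRo x hx y (hT hy)
    rcases hpiece with hC | ⟨h2, hE⟩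
    · refine ⟨Q ⊔ P₁, P₂, orth_sup (oQ hP₂R) o1, Inv.sup hQI i1, i2, Nd.sup hB (oQ hP₁R) hQN n1, n2, ?_,
        C1On.sup hB (oQ hP₁R) (c1On_of_c1 hQI hC) hc1, hc2, hch⟩
      rw [sup_assoc, hsup, hQR]
    · have hI' : Inv (ng g) Q := fun w hw => by
        rw [ng_apply]; exact Q.neg_mem (hQI w hw)
      have hCQ : C1On B (ng g) Q := by
        apply c1On_of_c1 hI'
        have : gr (ng g) Q hI' = ng (gr g Q hQI) := by
          ext w
          rfl
        rw [this]
        exact hE.1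
      refine ⟨P₁, Q ⊔ P₂, orth_sup' ((oQ hP₁R).symm hB) o1, i1, Inv.sup hQI i2, n1, Nd.sup hB (oQ hP₂R) hQN n2, ?_,
        hc1, C1On.sup hB (oQ hP₂R) hCQ hc2, fun h3 => absurd h3 h2⟩
      rw [← sup_assoc, sup_comm P₁ Q, sup_assoc, hsup, hQR]

theorem inv_ng {g : V ≃ₗ[F] V} {P : Submodule F V} (h : Inv g P) : Inv (ng g) P := fun w hw => by
  rw [ng_apply]; exact P.neg_mem (h w hw)

/-- pieces: large -/
theorem fourOn_big [Finite F] {B : LinearMap.BilinForm F V} (hB : Alt B) {g : V ≃ₗ[F] V} (hg : Iso B g) {P : Submodule F V}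
    (hI : Inv g P) (hP : Nd B P) {m : ℕ} (hm : Module.finrank F P = 2 * m)
    (hq : m = 0 ∨ 5 ≤ Nat.card F ^ m ∨ 4 ≤ Nat.card F) (hC : C1On B g P ∨ C1On B (ng g) P) : FourOn B g P := by
  rcases Nat.eq_zero_or_pos m with h0 | h0
  · subst h0
    have : P = ⊥ := Submodule.finrank_eq_zero.1 (by rw [hm, mul_zero])
    rw [this]
    exact FourOn.bot B g
  have hq' := hq.resolve_left (by omega)
  apply fourOn_of hB hP hI
  rcases hC with hC | hC
  · exact c1_four (restrict_alt hB P) (restrict_nond hP) hm (by omega) hq' (gr_iso hg P hI) (Or.inl rfl)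
      (fun v => (one_smul F _).symm) (c1_of_c1On hI hC)
  · refine c1_four (restrict_alt hB P) (restrict_nond hP) hm (by omega) hq' (gr_iso (ng_iso hg) P (inv_ng hI))
      (Or.inr rfl) (fun v => ?_) (c1_of_c1On (inv_ng hI) hC)
    apply Subtype.ext
    rw [neg_one_smul]
    show g v = - -(g v)
    rw [neg_neg]

/-- pieces: scalar -/
theorem fourOn_triv {B : LinearMap.BilinForm F V} (hB : Alt B) {g : V ≃ₗ[F] V} {P : Submodule F V}
    (hI : Inv g P) (hP : Nd B P) {c : F} (hc : c = 1 ∨ c = -1) (hgc : ∀ v ∈ P, g v = c • v) {h : V ≃ₗ[F] V}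
    (hC : C1On B h P) : FourOn B g P := by
  apply fourOn_of hB hP hI
  obtain ⟨W, W', h1, h2, h3, -⟩ := hC
  have hW : W ≤ P := by rw [← h3]; exact le_sup_left
  have hW' : W' ≤ P := by rw [← h3]; exact le_sup_right
  refine four_triv (restrict_alt hB P) (restrict_nond hP) (P := W.comap P.subtype) (Q := W'.comap P.subtype)
    (fun x hx y hy => h1 x hx y hy) (fun x hx y hy => h2 x hx y hy) ?_ hc (fun v => Subtype.ext (hgc v v.2))
  rw [eq_top_iff]
  rintro ⟨x, hx⟩ _
  rw [← h3] at hx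
  obtain ⟨a, ha, b, hb, hab⟩ := Submodule.mem_sup.1 hx
  rw [Submodule.mem_sup]
  exact ⟨⟨a, hW ha⟩, ha, ⟨b, hW' hb⟩, hb, Subtype.ext hab⟩

/-- **Every isometry of a symplectic space over a finite field is a product of four isometries with square `-1`.** -/
theorem sp_four [Finite F] {B : LinearMap.BilinForm F V} (hB : Alt B) (hN : Nond B) {n : ℕ}
    (hV : Module.finrank F V = 2 * n) (h1 : n = 1 → 4 ≤ Nat.card F) (h2 : n = 2 → 3 ≤ Nat.card F)
    {g : V ≃ₗ[F] V} (hg : Iso B g) : Four B g := by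
  obtain ⟨P, Q, o, i1, i2, n1, n2, hsup, hC, hC', hch⟩ :=
    exists_dec2 hB hg (Module.finrank F (⊤ : Submodule F V)) ⊤ (fun v _ => trivial) (fun v _ h => hN v (fun w => h w trivial)) rfl
  have hcard : 2 ≤ Nat.card F := Finite.one_lt_card
  have hdim : ∀ {h : V ≃ₗ[F] V} {R : Submodule F V}, Inv h R → Nd B R → C1On B h R → ∃ m, Module.finrank F R = 2 * m := by
    intro h R hI hR hCR
    obtain ⟨W, W', h3, h4, h5, -⟩ := c1_of_c1On hI hCR
    exact ⟨_, finrank_two (restrict_alt hB R) (restrict_nond hR) h3 h4 h5⟩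
  obtain ⟨m, hm⟩ := hdim i1 n1 hC
  obtain ⟨k, hk⟩ := hdim (inv_ng i2) n2 hC'
  have hmk : m + k = n := by
    have h5 := Submodule.finrank_sup_add_finrank_inf_eq P Q
    have h6 : P ⊓ Q = ⊥ := by
      rw [Submodule.eq_bot_iff]
      intro x hx
      exact n1 x hx.1 (fun w hw => hB.zero (o w hw x hx.2))
    rw [h6, finrank_bot, hm, hk, hsup, finrank_top, hV] at h5
    omega
  have hPQ : FourOn B g P → FourOn B g Q → Four B g := fun h3 h4 => by
    apply FourOn.top
    rw [← hsup]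
    exact FourOn.sup hB o h3 h4
  rcases Nat.lt_or_ge (Nat.card F) 4 with hlt | hge
  swap
  · exact hPQ (fourOn_big hB hg i1 n1 hm (Or.inr (Or.inr hge)) (Or.inl hC))
      (fourOn_big hB hg i2 n2 hk (Or.inr (Or.inr hge)) (Or.inr hC'))
  have : Fintype F := Fintype.ofFinite F
  rcases (show Nat.card F = 2 ∨ Nat.card F = 3 by omega) with hq | hq
  · have h20 : (2 : F) = 0 := by
      have h3 := FiniteField.cast_card_eq_zero F
      rw [← Nat.card_eq_fintype_card, hq] at h3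
      exact_mod_cast h3
    have hQ := hch h20
    have hk0 : k = 0 := by
      rw [hQ, finrank_bot] at hk
      omega
    refine hPQ (fourOn_big hB hg i1 n1 hm ?_ (Or.inl hC)) (by rw [hQ]; exact FourOn.bot B g)
    by_cases hm0 : m = 0
    · exact Or.inl hm0
    · right; left
      have h3 : 3 ≤ m := by
        rcases Nat.lt_or_ge m 3 with h6 | h6
        · have h7 : m = 1 ∨ m = 2 := by omega
          rcases h7 with h7 | h7
          · have := h1 (by omega); omega
          · have := h2 (by omega); omega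
        · exact h6
      rw [hq]
      calc 5 ≤ 2 ^ 3 := by norm_num
        _ ≤ 2 ^ m := Nat.pow_le_pow_right (by norm_num) h3
  · -- q = 3
    have hn1 : n ≠ 1 := fun h3 => by have := h1 h3; omega
    have big : ∀ {j : ℕ}, j ≠ 1 → j = 0 ∨ 5 ≤ Nat.card F ^ j ∨ 4 ≤ Nat.card F := by
      intro j hj
      by_cases hj0 : j = 0
      · exact Or.inl hj0
      · right; left
        rw [hq]
        calc 5 ≤ 3 ^ 2 := by norm_num
          _ ≤ 3 ^ j := Nat.pow_le_pow_right (by norm_num) (by omega)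
    have hVtop : ∀ {ε : V ≃ₗ[F] V}, C1On B ε (P ⊔ Q) → C1 B ε := fun hε => c1_top hsup hε
    by_cases hP : FourOn B g P
    · by_cases hQ : FourOn B g Q
      · exact hPQ hP hQ
      -- `Q` is bad
      have hk1 : k = 1 := by
        by_contra hk1
        exact hQ (fourOn_big hB hg i2 n2 hk (big hk1) (Or.inr hC'))
      subst hk1
      have hne : ¬ ∀ v ∈ Q, (ng g) v = v := by
        intro hcon
        apply hQ
        refine fourOn_triv hB i2 n2 (Or.inr rfl) (fun v hv => ?_) hC'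
        rw [neg_one_smul, ← hcon v hv, ng_apply, neg_neg, ← ng_apply, hcon v hv]
      obtain ⟨v, hv, hgv⟩ := exists_nonscalar n2 (inv_ng i2) hk hC' hne
      have h3 := c1On_neg hB (inv_ng i2) hk hv hgv
      rw [ng_ng] at h3
      exact c1_four hB hN hV (by omega) ((big hn1).resolve_left (by omega)) hg (Or.inl rfl)
        (fun v => (one_smul F _).symm) (hVtop (C1On.sup hB o hC h3))
    · -- `P` is bad
      have hm1 : m = 1 := by
        by_contra hm1
        exact hP (fourOn_big hB hg i1 n1 hm (big hm1) (Or.inl hC))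
      subst hm1
      have hne : ¬ ∀ v ∈ P, g v = v := by
        intro hcon
        apply hP
        refine fourOn_triv hB i1 n1 (Or.inl rfl) (fun v hv => ?_) hC
        rw [one_smul, hcon v hv]
      obtain ⟨v, hv, hgv⟩ := exists_nonscalar n1 i1 hm hC hne
      have h3 := c1On_neg hB i1 hm hv hgv
      refine c1_four hB hN hV (by omega) ((big hn1).resolve_left (by omega)) (ng_iso hg) (Or.inr rfl)
        (fun v => ?_) (hVtop (C1On.sup hB o h3 hC'))
      rw [ng_apply, smul_neg, neg_one_smul, neg_neg]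

end FD

/-! ### the row -/

open Cfsg.Agent.S2445 Cfsg.Agent.H146.Inv4 in
/-- every element of `Sp_{2m}(q)` -/
theorem w4_sp {F : Type*} [Field F] [Fintype F] (m : ℕ) (h1 : m = 1 → 4 ≤ Fintype.card F)
    (h2 : m = 2 → 3 ≤ Fintype.card F) (g : Matrix.symplecticGroup (Fin m) F) :
    W4 (Subgroup.center (Matrix.symplecticGroup (Fin m) F)) g := by
  have hV : Module.finrank F (Fin m ⊕ Fin m → F) = 2 * m := by
    rw [Module.finrank_fintype_fun_eq_card, Fintype.card_sum, Fintype.card_fin]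
    ring
  obtain ⟨t, ht, ht2, hg⟩ := sp_four form_alt form_nond hV (by rw [Nat.card_eq_fintype_card]; exact h1)
    (by rw [Nat.card_eq_fintype_card]; exact h2) (act_iso g)
  have hmul : ∀ s t : (Fin m ⊕ Fin m → F) ≃ₗ[F] (Fin m ⊕ Fin m → F),
      LinearMap.toMatrix' ((s * t : (Fin m ⊕ Fin m → F) ≃ₗ[F] (Fin m ⊕ Fin m → F)) :
        (Fin m ⊕ Fin m → F) →ₗ[F] (Fin m ⊕ Fin m → F)) =
      LinearMap.toMatrix' (s : (Fin m ⊕ Fin m → F) →ₗ[F] (Fin m ⊕ Fin m → F)) *
        LinearMap.toMatrix' (t : (Fin m ⊕ Fin m → F) →ₗ[F] (Fin m ⊕ Fin m → F)) := by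
    intro s t
    rw [← LinearMap.toMatrix'_comp]
    rfl
  let a : Fin 4 → Matrix.symplecticGroup (Fin m) F := fun i => ⟨_, mem_of_iso (ht i)⟩
  have hsq : ∀ i, a i * a i ∈ Subgroup.center (Matrix.symplecticGroup (Fin m) F) := by
    intro i
    have h3 : ((a i * a i : Matrix.symplecticGroup (Fin m) F) : Matrix (Fin m ⊕ Fin m) (Fin m ⊕ Fin m) F) = -1 := by
      show LinearMap.toMatrix' (t i : (Fin m ⊕ Fin m → F) →ₗ[F] (Fin m ⊕ Fin m → F)) *
        LinearMap.toMatrix' (t i : (Fin m ⊕ Fin m → F) →ₗ[F] (Fin m ⊕ Fin m → F)) = -1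
      rw [← hmul]
      have h4 : ((t i * t i : (Fin m ⊕ Fin m → F) ≃ₗ[F] (Fin m ⊕ Fin m → F)) :
          (Fin m ⊕ Fin m → F) →ₗ[F] (Fin m ⊕ Fin m → F)) = -LinearMap.id := by
        apply LinearMap.ext
        intro v
        exact ht2 i v
      rw [h4, map_neg, LinearMap.toMatrix'_id]
    rw [Subgroup.mem_center_iff]
    intro x
    apply Subtype.ext
    show (x : Matrix (Fin m ⊕ Fin m) (Fin m ⊕ Fin m) F) *
        ((a i * a i : Matrix.symplecticGroup (Fin m) F) : Matrix (Fin m ⊕ Fin m) (Fin m ⊕ Fin m) F) =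
      ((a i * a i : Matrix.symplecticGroup (Fin m) F) : Matrix (Fin m ⊕ Fin m) (Fin m ⊕ Fin m) F) *
        (x : Matrix (Fin m ⊕ Fin m) (Fin m ⊕ Fin m) F)
    rw [h3, mul_neg, neg_mul, mul_one, one_mul]
  refine ⟨a 0, a 1, a 2, a 3, 1, hsq 0, hsq 1, hsq 2, hsq 3, one_mem _, ?_⟩
  rw [mul_one]
  apply Subtype.ext
  have h3 : act g = t 0 * t 1 * t 2 * t 3 := LinearEquiv.ext fun v => hg v
  have h4 := congrArg (fun t : (Fin m ⊕ Fin m → F) ≃ₗ[F] (Fin m ⊕ Fin m → F) =>
    LinearMap.toMatrix' (t : (Fin m ⊕ Fin m → F) →ₗ[F] (Fin m ⊕ Fin m → F))) h3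
  have h6 : LinearMap.toMatrix' (act g : (Fin m ⊕ Fin m → F) →ₗ[F] (Fin m ⊕ Fin m → F)) = (g : Matrix _ _ F) :=
    LinearMap.toMatrix'_toLin' _
  simp only [hmul, h6] at h4
  exact h4

open Cfsg.Agent.H146.Inv4 in
/-- **S4171, the row `PSp_{2m}(q)`, every `q`.** -/
theorem i4_psp {G : Type*} [Group G] (h : Cfsg.IsPSp G) : I4 G := by
  obtain ⟨F, _, _, m, hm, h2, ⟨e⟩⟩ := h
  exact I4.congr e.symm (I4.quot (w4_sp (F := F) m (fun h => by omega) h2))

end Cfsg.Agent.H253.FI
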